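import Mathlib
import Cfsg.Agent.SporadicB.J1Local.Defs
import Cfsg.Agent.SporadicB.J1Local.A5

/-!
Structure of the centraliser of an involution in a group of type `J1`, element-wise.
-/

set_option autoImplicit false

namespace Cfsg.Agent.SporadicB.J1Local.Cent

open Cfsg.Agent.SporRec.J1.Defs Cfsg.Agent.SporadicB.J1Local.Defs
open scoped commutatorElement

/-- A parametrisation of `C(t) = ⟨t⟩ × A5`. -/
structure Par {G : Type*} [Group G] (t : G) (φ : alternatingGroup (Fin 5) →* G) : Prop where
  inj : Function.Injective φ
  comm : ∀ a, t * φ a = φ a * t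
  ne : ∀ a, φ a ≠ t
  cent : ∀ g, t * g = g * t → ∃ a, g = φ a ∨ g = t * φ a
  memF : ∀ g, g ∈ F t ↔ ∃ a, g = φ a
  sq : t * t = 1
  one_ne : t ≠ 1

theorem center_trivial : ∀ a : alternatingGroup (Fin 5), (∀ b : alternatingGroup (Fin 5), a * b = b * a) →
    a = 1 := by
  decide +kernel

theorem zmod2_cases (a : Multiplicative (ZMod 2)) : a = 1 ∨ a = Multiplicative.ofAdd 1 := by
  revert a; decide

theorem mul_self_of_orderOf_two {G : Type*} [Group G] {t : G} (ht : orderOf t = 2) : t * t = 1 := by
  have := pow_orderOf_eq_one t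
  rwa [ht, pow_two] at this

theorem ne_one_of_orderOf_two {G : Type*} [Group G] {t : G} (ht : orderOf t = 2) : t ≠ 1 := by
  rintro rfl
  simp at ht

theorem orderOf_eq_two {G : Type*} [Group G] {t : G} (h1 : t * t = 1) (h2 : t ≠ 1) : orderOf t = 2 :=
  orderOf_eq_prime (by rw [pow_two]; exact h1) h2

theorem exists_par {G : Type*} [Group G] (t : G) (ht : orderOf t = 2)
    (e : Subgroup.centralizer ({t} : Set G) ≃* Multiplicative (ZMod 2) × alternatingGroup (Fin 5)) :
    ∃ φ : alternatingGroup (Fin 5) →* G, Par t φ := by
  classical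
  have htt : t * t = 1 := mul_self_of_orderOf_two ht
  have ht1 : t ≠ 1 := ne_one_of_orderOf_two ht
  have memC : ∀ g : G, g ∈ Subgroup.centralizer ({t} : Set G) ↔ t * g = g * t := by
    intro g
    rw [Subgroup.mem_centralizer_singleton_iff]
    exact eq_comm
  let tc : Subgroup.centralizer ({t} : Set G) := ⟨t, (memC t).2 rfl⟩
  have htc : ∀ g : Subgroup.centralizer ({t} : Set G), tc * g = g * tc := by
    intro g
    apply Subtype.ext
    exact (memC g).1 g.2
  -- image of t
  have h2 : (e tc).2 = 1 := by
    apply center_trivial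
    intro b
    have := congrArg e (htc (e.symm (1, b)))
    rw [map_mul, map_mul, MulEquiv.apply_symm_apply] at this
    have := congrArg Prod.snd this
    simpa using this
  have h1 : (e tc).1 = Multiplicative.ofAdd 1 := by
    rcases zmod2_cases (e tc).1 with h | h
    · exfalso
      have : e tc = 1 := Prod.ext h h2
      have : tc = 1 := e.injective (by rw [this, map_one])
      exact ht1 (congrArg Subtype.val this)
    · exact h
  have hetc : e tc = (Multiplicative.ofAdd 1, 1) := Prod.ext h1 h2
  let φ : alternatingGroup (Fin 5) →* G :=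
    ((Subgroup.centralizer ({t} : Set G)).subtype.comp e.symm.toMonoidHom).comp
      (MonoidHom.inr (Multiplicative (ZMod 2)) (alternatingGroup (Fin 5)))
  have hφ : ∀ a, φ a = ((e.symm (1, a) : Subgroup.centralizer ({t} : Set G)) : G) := fun a => rfl
  have hcomm : ∀ a, t * φ a = φ a * t := by
    intro a
    rw [hφ]
    exact (memC _).1 (e.symm (1, a)).2
  have hinj : Function.Injective φ := by
    intro a b hab
    rw [hφ, hφ] at hab
    have := e.symm.injective (Subtype.ext hab)
    exact congrArg Prod.snd this
  have hne : ∀ a, φ a ≠ t := by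
    intro a hat
    rw [hφ] at hat
    have : e.symm (1, a) = tc := Subtype.ext hat
    have := congrArg e this
    rw [MulEquiv.apply_symm_apply, hetc] at this
    have h5 : (1 : Multiplicative (ZMod 2)) = Multiplicative.ofAdd 1 := congrArg Prod.fst this
    revert h5
    decide
  have hcent : ∀ g, t * g = g * t → ∃ a, g = φ a ∨ g = t * φ a := by
    intro g hg
    let gc : Subgroup.centralizer ({t} : Set G) := ⟨g, (memC g).2 hg⟩
    refine ⟨(e gc).2, ?_⟩
    rcases zmod2_cases (e gc).1 with h | h
    · left
      have : e gc = (1, (e gc).2) := Prod.ext h rfl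
      rw [hφ, ← this, MulEquiv.symm_apply_apply]
    · right
      have h3 : e gc = e tc * (1, (e gc).2) := by
        rw [hetc]
        exact Prod.ext (by simp [h]) (by simp)
      have h4 : gc = tc * e.symm (1, (e gc).2) := by
        apply e.injective
        rw [map_mul, MulEquiv.apply_symm_apply]
        exact h3
      have := congrArg Subtype.val h4
      rw [hφ]
      exact this
  refine ⟨φ, hinj, hcomm, hne, hcent, ?_, htt, ht1⟩
  -- F t = range φ
  have hF : F t = φ.range := by
    apply le_antisymm
    · unfold F
      rw [Subgroup.commutator_le]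
      intro g hg h hh
      obtain ⟨a, ha⟩ := hcent g ((memC g).1 hg)
      obtain ⟨b, hb⟩ := hcent h ((memC h).1 hh)
      refine ⟨⁅a, b⁆, ?_⟩
      have hta := hcomm a
      have htb := hcomm b
      have hti : t⁻¹ = t := inv_eq_of_mul_eq_one_left htt
      have e1 : ∀ (u v p q : G), u * p = p * u → u * q = q * u → v * p = p * v → v * q = q * v →
          u * v = v * u → ⁅u * p, v * q⁆ = ⁅p, q⁆ := by
        intro u v p q h1 h2 h3 h4 h5
        have c1 : Commute u p := h1
        have c2 : Commute u q := h2
        have c3 : Commute v p := h3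
        have c4 : Commute v q := h4
        have c5 : Commute u v := h5
        simp only [commutatorElement_def, mul_inv_rev]
        calc u * p * (v * q) * (p⁻¹ * u⁻¹) * (q⁻¹ * v⁻¹)
            = u * (p * v) * q * p⁻¹ * (u⁻¹ * q⁻¹) * v⁻¹ := by group
          _ = u * (v * p) * q * p⁻¹ * (q⁻¹ * u⁻¹) * v⁻¹ := by
              rw [c3.eq, (c2.inv_inv).eq]
          _ = (u * v) * (p * q * p⁻¹ * q⁻¹) * (u⁻¹ * v⁻¹) := by group
          _ = (p * q * p⁻¹ * q⁻¹) * (u * v) * (u⁻¹ * v⁻¹) := by
              have : Commute (u * v) (p * q * p⁻¹ * q⁻¹) := by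
                have d1 : Commute (u * v) p := c1.mul_left c3
                have d2 : Commute (u * v) q := c2.mul_left c4
                exact ((d1.mul_right d2).mul_right d1.inv_right).mul_right d2.inv_right
              rw [this.eq]
          _ = p * q * p⁻¹ * q⁻¹ := by
              rw [(c5.inv_inv).eq]; group
      rcases ha with rfl | rfl <;> rcases hb with rfl | rfl
      · rw [map_commutatorElement]
      · rw [map_commutatorElement]
        have := e1 1 t (φ a) (φ b) (by simp) (by simp) hta htb (by simp)
        rw [one_mul] at this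
        exact this.symm
      · rw [map_commutatorElement]
        have := e1 t 1 (φ a) (φ b) hta htb (by simp) (by simp) (by simp)
        rw [one_mul] at this
        exact this.symm
      · rw [map_commutatorElement]
        exact (e1 t t (φ a) (φ b) hta htb hta htb rfl).symm
    · have hr : φ.range ≤ Subgroup.centralizer ({t} : Set G) := by
        rintro _ ⟨a, rfl⟩
        exact (memC _).2 (hcomm a)
      have hp : (⊤ : Subgroup (alternatingGroup (Fin 5))) =
          ⁅(⊤ : Subgroup (alternatingGroup (Fin 5))), (⊤ : Subgroup (alternatingGroup (Fin 5)))⁆ := by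
        have := commutator_alternatingGroup_eq_top (α := Fin 5) (by simp)
        exact this.symm
      rw [MonoidHom.range_eq_map, hp, Subgroup.map_commutator, ← MonoidHom.range_eq_map]
      exact Subgroup.commutator_mono hr hr
  intro g
  rw [hF]
  exact ⟨fun ⟨a, ha⟩ => ⟨a, ha.symm⟩, fun ⟨a, ha⟩ => ⟨a, ha.symm⟩⟩

end Cfsg.Agent.SporadicB.J1Local.Cent
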