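import Mathlib
import Cfsg.Agent.SporadicB.J1Local.Cent2

/-!
The odd part `K` of `C(x)` for `x` of order 3 or 5 commuting with an involution, and its structure.
-/

set_option autoImplicit false

namespace Cfsg.Agent.SporadicB.J1Local.OddK

open Cfsg.Agent.SporRec.J1.Defs Cfsg.Agent.SporadicB.J1Local.Defs
open Cfsg.Agent.SporadicB.J1Local.Cent Cfsg.Agent.SporadicB.J1Local.Cent2
open Cfsg.Agent.SporadicB.J1Local.Kstr

theorem odd_kernel {C : Type*} [Group C] [Finite C] (T : Sylow 2 C) (hT : Nat.card T = 2) :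
    ∃ K : Subgroup C, 2 * Nat.card K = Nat.card C ∧ ∀ c, c ∈ K ↔ Odd (orderOf c) := by
  have h2 : 2 ∣ Nat.card C := by
    have := Subgroup.card_subgroup_dvd_card (T : Subgroup C)
    rwa [hT] at this
  have hmin : (Nat.card C).minFac = 2 := (Nat.minFac_eq_two_iff _).2 h2
  have : Fact (Nat.Prime 2) := ⟨Nat.prime_two⟩
  have hcyc : IsCyclic T := isCyclic_of_prime_card (p := 2) hT
  have hcomp := hcyc.isComplement' hmin
  have hnd := MonoidHom.not_dvd_card_ker_transferSylow T (hcyc.normalizer_le_centralizer hmin)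
  set K := (MonoidHom.transferSylow T (hcyc.normalizer_le_centralizer hmin)).ker with hK
  have hcard : 2 * Nat.card K = Nat.card C := by
    have := hcomp.card_mul_card
    rw [hT] at this
    rw [← this]; ring
  refine ⟨K, hcard, ?_⟩
  intro c
  constructor
  · intro hc
    have h3 : orderOf c ∣ Nat.card K := Subgroup.orderOf_dvd_natCard K hc
    rw [← Nat.not_even_iff_odd, even_iff_two_dvd]
    intro h4
    exact hnd (h4.trans h3)
  · intro hc
    have hidx : K.index = 2 := by
      have h5 := K.card_mul_index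
      rw [← hcard, mul_comm 2] at h5
      exact Nat.eq_of_mul_eq_mul_left Nat.card_pos h5
    obtain ⟨m, -, hm⟩ := exists_sqrt hc
    rw [← hm, ← pow_two]
    exact Subgroup.sq_mem_of_index_two hidx m

variable {G : Type*} [Group G]

/-- Weak configuration: commuting involutions `t, s`, `x ∈ C(t)` of order 3 or 5 inverted by `s`. -/
structure Cfg0 (t s x : G) : Prop where
  t2 : orderOf t = 2
  s2 : orderOf s = 2
  ts : t * s = s * t
  tx : t * x = x * t
  x35 : orderOf x = 3 ∨ orderOf x = 5
  inv : s * x * s = x⁻¹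

theorem odd_of35 {x : G} (h : orderOf x = 3 ∨ orderOf x = 5) : Odd (orderOf x) := by
  rcases h with h | h <;> rw [h] <;> decide

theorem eq_one_of_odd_sq {c : G} (ho : Odd (orderOf c)) (h2 : c * c = 1) : c = 1 := by
  have h3 : orderOf c ∣ 2 := orderOf_dvd_of_pow_eq_one (by rw [pow_two]; exact h2)
  rcases (Nat.dvd_prime Nat.prime_two).1 h3 with h4 | h4
  · exact orderOf_eq_one_iff.1 h4
  · rw [h4] at ho; exact absurd ho (by decide)

theorem odd_pow {x : G} (ho : Odd (orderOf x)) (k : ℕ) : Odd (orderOf (x ^ k)) :=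
  ho.of_dvd_nat (orderOf_pow_dvd k)

theorem exists_K [Finite G] (h : Fus G) {t x : G} (ht : orderOf t = 2) (htx : t * x = x * t)
    (hx : orderOf x = 3 ∨ orderOf x = 5) :
    ∃ K : Subgroup G, (∀ c, c ∈ K ↔ (c * x = x * c ∧ Odd (orderOf c))) ∧
      2 * Nat.card K = Nat.card (Subgroup.centralizer ({x} : Set G)) := by
  obtain ⟨φ, P⟩ := par h ht
  have : Fact (Nat.Prime 2) := ⟨Nat.prime_two⟩
  have memC : ∀ g : G, g ∈ Subgroup.centralizer ({x} : Set G) ↔ g * x = x * g := fun g =>
    Subgroup.mem_centralizer_singleton_iff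
  let C := Subgroup.centralizer ({x} : Set G)
  let tc : C := ⟨t, (memC t).2 htx⟩
  have htc : orderOf tc = 2 := by
    rw [← ht]; exact Subgroup.orderOf_mk t _
  have hpz : IsPGroup 2 (Subgroup.zpowers tc) := by
    apply IsPGroup.of_card (n := 1)
    rw [Nat.card_zpowers, htc, pow_one]
  obtain ⟨T, hT⟩ := hpz.exists_le_sylow
  have hsq : ∀ q ∈ T, (q : G) * (q : G) = 1 := by
    intro q hq
    have hp : IsPGroup 2 ((T : Subgroup C).map C.subtype) := T.2.map C.subtype
    obtain ⟨S, hS⟩ := hp.exists_le_sylow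
    exact h.sq S q (hS ⟨q, hq, rfl⟩)
  have htT : tc ∈ T := hT (Subgroup.mem_zpowers tc)
  have hall : ∀ q ∈ T, q = 1 ∨ q = tc := by
    intro q hq
    have h1 := hsq q hq
    have h2 := hsq (q * tc) ((T : Subgroup C).mul_mem hq htT)
    have h3 : t * (q : G) = (q : G) * t := by
      have h2' : (q : G) * t * ((q : G) * t) = 1 := h2
      have e1 : (q : G)⁻¹ = q := inv_eq_of_mul_eq_one_left h1
      have e2 : t⁻¹ = t := inv_eq_of_mul_eq_one_left P.sq
      calc t * (q : G) = t⁻¹ * (q : G)⁻¹ := by rw [e1, e2]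
        _ = ((q : G) * t)⁻¹ := by group
        _ = (q : G) * t := inv_eq_of_mul_eq_one_left h2'
    have h4 : x * (q : G) = (q : G) * x := ((memC q).1 q.2).symm
    obtain ⟨k, hk | hk⟩ := centr P htx hx h3 h4
    · left
      rw [hk] at h1
      have := eq_one_of_odd_sq (odd_pow (odd_of35 hx) k) h1
      exact Subtype.ext (by rw [hk, this]; rfl)
    · right
      have hc : Commute t (x ^ k) := (show Commute t x from htx).pow_right k
      rw [hk] at h1
      have h5 : x ^ k * x ^ k = 1 := by
        calc x ^ k * x ^ k = (t * t) * (x ^ k * x ^ k) := by rw [P.sq, one_mul]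
          _ = t * (t * x ^ k) * x ^ k := by group
          _ = t * (x ^ k * t) * x ^ k := by rw [hc.eq]
          _ = t * x ^ k * (t * x ^ k) := by group
          _ = 1 := h1
      have := eq_one_of_odd_sq (odd_pow (odd_of35 hx) k) h5
      exact Subtype.ext (by rw [hk, this, mul_one])
  have hTz : (T : Subgroup C) = Subgroup.zpowers tc := by
    apply le_antisymm _ hT
    intro q hq
    rcases hall q hq with h1 | h1
    · rw [h1]; exact Subgroup.one_mem _
    · rw [h1]; exact Subgroup.mem_zpowers tc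
  have hcardT : Nat.card T = 2 := by
    have : Nat.card (T : Subgroup C) = 2 := by rw [hTz, Nat.card_zpowers, htc]
    exact this
  obtain ⟨K, hK1, hK2⟩ := odd_kernel T hcardT
  refine ⟨K.map C.subtype, ?_, ?_⟩
  · intro c
    constructor
    · rintro ⟨d, hd, rfl⟩
      refine ⟨(memC _).1 d.2, ?_⟩
      have := (hK2 d).1 hd
      have e : orderOf (C.subtype d) = orderOf d := Subgroup.orderOf_coe d
      rw [e]; exact this
    · rintro ⟨h1, h2⟩
      refine ⟨⟨c, (memC c).2 h1⟩, (hK2 _).2 ?_, rfl⟩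
      rw [Subgroup.orderOf_mk]; exact h2
  · rw [← hK1]
    congr 1
    exact Subgroup.card_map_of_injective (Subgroup.subtype_injective C)

theorem hyp_of [Finite G] (h : Fus G) {t s x : G} (C : Cfg0 t s x) {K : Subgroup G}
    (hK : ∀ c, c ∈ K ↔ (c * x = x * c ∧ Odd (orderOf c))) : Hyp K t s x := by
  obtain ⟨φ, P⟩ := par h C.t2
  have htt := mul_self_of_orderOf_two C.t2
  have hss := mul_self_of_orderOf_two C.s2
  have conjodd : ∀ (r c : G), r * r = 1 → Odd (orderOf c) → Odd (orderOf (r * c * r)) := by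
    intro r c hr hc
    have hri : r⁻¹ = r := inv_eq_of_mul_eq_one_left hr
    have : orderOf (r * c * r⁻¹) = orderOf c :=
      orderOf_injective (MulAut.conj r).toMonoidHom (MulAut.conj r).injective c
    rw [hri] at this
    rw [this]; exact hc
  refine ⟨fun k hk => ((hK k).1 hk).2, htt, hss, C.ts, (hK x).2 ⟨rfl, odd_of35 C.x35⟩,
    fun k hk => ((hK k).1 hk).1, ?_, ?_, C.tx, C.inv, ?_⟩
  · intro k hk
    obtain ⟨h1, h2⟩ := (hK k).1 hk
    refine (hK _).2 ⟨?_, conjodd t k htt h2⟩
    calc t * k * t * x = t * k * (t * x) := by group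
      _ = t * (k * x) * t := by rw [C.tx]; group
      _ = (t * x) * k * t := by rw [h1]; group
      _ = x * (t * k * t) := by rw [C.tx]; group
  · intro k hk
    obtain ⟨h1, h2⟩ := (hK k).1 hk
    refine (hK _).2 ⟨?_, conjodd s k hss h2⟩
    have hi : s * x = x⁻¹ * s := by
      calc s * x = s * x * s * s⁻¹ := by group
        _ = x⁻¹ * s⁻¹ := by rw [C.inv]
        _ = x⁻¹ * s := by rw [inv_eq_of_mul_eq_one_left hss]
    have hi' : s * x⁻¹ = x * s := by
      calc s * x⁻¹ = s * (s * x * s) := by rw [C.inv]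
        _ = (s * s) * x * s := by group
        _ = x * s := by rw [hss, one_mul]
    have hk' : k * x⁻¹ = x⁻¹ * k := (show Commute k x from h1).inv_right.eq
    calc s * k * s * x = s * k * (s * x) := by group
      _ = s * (k * x⁻¹) * s := by rw [hi]; group
      _ = (s * x⁻¹) * k * s := by rw [hk']; group
      _ = x * (s * k * s) := by rw [hi']; group
  · intro k hk htk
    obtain ⟨h1, h2⟩ := (hK k).1 hk
    obtain ⟨i, hi | hi⟩ := centr P C.tx C.x35 htk h1.symm
    · rw [hi]; exact Subgroup.npow_mem_zpowers x i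
    · exfalso
      -- t * x^i has even order
      obtain ⟨a, ha⟩ := odd_exists P htk h2
      obtain ⟨b, hb⟩ := odd_exists P C.tx (odd_of35 C.x35)
      apply P.ne (a * (b ^ i)⁻¹)
      rw [map_mul, map_inv, map_pow, ← ha, ← hb, hi]; group

end Cfsg.Agent.SporadicB.J1Local.OddK
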