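import Mathlib
import Cfsg.Agent.SporadicB.J1Local.OddK

/-!
Links between elements of order 3 / 5 in centralisers of commuting involutions, and the shape of `K = O(C(x))`.
-/

set_option autoImplicit false

namespace Cfsg.Agent.SporadicB.J1Local.Links

open Cfsg.Agent.SporRec.J1.Defs Cfsg.Agent.SporadicB.J1Local.Defs
open Cfsg.Agent.SporadicB.J1Local.Cent Cfsg.Agent.SporadicB.J1Local.Cent2
open Cfsg.Agent.SporadicB.J1Local.Kstr Cfsg.Agent.SporadicB.J1Local.OddK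

variable {G : Type*} [Group G]

theorem cfg0_of {t s x : G} (C : Cfg t s x) : Cfg0 t s x :=
  ⟨C.t2, C.s2, C.ts, C.tx, C.x35, C.inv⟩

theorem arr_of {t s x : G} (C : Cfg t s x) : Arr t s := ⟨C.t2, C.s2, C.ts, C.sF⟩

/-- `ts` also inverts `x`. -/
theorem cfg0_prod {t s x : G} (C : Cfg0 t s x) (hts : orderOf (t * s) = 2) : Cfg0 t (t * s) x := by
  refine ⟨C.t2, hts, ?_, C.tx, C.x35, ?_⟩
  · calc t * (t * s) = t * (s * t) := by rw [C.ts]
      _ = _ := by group
  · have htt := mul_self_of_orderOf_two C.t2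
    have htx' : t * x⁻¹ = x⁻¹ * t := (show Commute t x from C.tx).inv_right.eq
    calc t * s * x * (t * s) = t * s * x * (s * t) := by rw [C.ts]
      _ = t * (s * x * s) * t := by group
      _ = x⁻¹ * (t * t) := by rw [C.inv, htx']; group
      _ = x⁻¹ := by rw [htt, mul_one]

section Apart
variable {K : Subgroup G} {t s x : G}

theorem A_inv (H : Hyp K t s x) {a : G} (ha : a ∈ K) (hsa : s * a = a * s) : t * a * t = a⁻¹ := by
  obtain ⟨z, hz, e⟩ := H.inv ha
  have c1 : Commute s a := hsa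
  have c2 : Commute s t := H.ts.symm
  have c3 : Commute s (t * a * t) := (c2.mul_right c1).mul_right c2
  have c4 : Commute s z := by
    have : z = a * (t * a * t) := by rw [e]; group
    rw [this]; exact c1.mul_right c3
  have h1 := H.sz hz
  have h2 : s * z * s = z := by
    rw [c4.eq, mul_assoc, H.ss, mul_one]
  have h3 : z * z = 1 := by
    rw [h2] at h1
    calc z * z = z * z⁻¹ := by rw [← h1]
      _ = 1 := by group
  have h4 : z = 1 := eq_one_of_odd_sq (H.odd z (H.zK hz)) h3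
  rw [e, h4, mul_one]

theorem A_comm (H : Hyp K t s x) {a b : G} (ha : a ∈ K) (hsa : s * a = a * s) (hb : b ∈ K)
    (hsb : s * b = b * s) : a * b = b * a := by
  have hab : s * (a * b) = (a * b) * s := ((show Commute s a from hsa).mul_right hsb).eq
  have h1 := A_inv H (K.mul_mem ha hb) hab
  rw [conj_mul' H.tt, A_inv H ha hsa, A_inv H hb hsb] at h1
  have h2 : (a⁻¹ * b⁻¹)⁻¹ = ((a * b)⁻¹)⁻¹ := by rw [h1]
  calc a * b = ((a * b)⁻¹)⁻¹ := by group
    _ = (a⁻¹ * b⁻¹)⁻¹ := h2.symm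
    _ = b * a := by group

theorem A_pow (h : Fus G) (hs : orderOf s = 2) (H : Hyp K t s x) {c a : G} (hc : c ∈ K)
    (hsc : s * c = c * s) (h35 : orderOf c = 3 ∨ orderOf c = 5) (ha : a ∈ K) (hsa : s * a = a * s) :
    ∃ k : ℕ, a = c ^ k := by
  obtain ⟨φ, P⟩ := par h hs
  obtain ⟨k, hk | hk⟩ := centr P hsc h35 hsa (A_comm H hc hsc ha hsa)
  · exact ⟨k, hk⟩
  · exfalso
    obtain ⟨a1, ha1⟩ := odd_exists P hsa (H.odd a ha)
    obtain ⟨b1, hb1⟩ := odd_exists P hsc (H.odd c hc)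
    apply P.ne (a1 * (b1 ^ k)⁻¹)
    rw [map_mul, map_inv, map_pow, ← ha1, ← hb1, hk]; group

/-- Generator of `C_K(s)`. -/
theorem A_gen (h : Fus G) (hs : orderOf s = 2) (H : Hyp K t s x) :
    ∃ c ∈ K, s * c = c * s ∧ t * c * t = c⁻¹ ∧ (c = 1 ∨ orderOf c = 3 ∨ orderOf c = 5) ∧
      ∀ a ∈ K, s * a = a * s → ∃ k : ℕ, a = c ^ k := by
  obtain ⟨φ, P⟩ := par h hs
  by_cases hA : ∃ c ∈ K, s * c = c * s ∧ c ≠ 1
  · obtain ⟨c, hc, hsc, hc1⟩ := hA
    have h35 : orderOf c = 3 ∨ orderOf c = 5 := by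
      rcases odd_cases P hsc (H.odd c hc) with h1 | h1
      · exact absurd h1 hc1
      · exact h1
    exact ⟨c, hc, hsc, A_inv H hc hsc, Or.inr h35, fun a ha hsa => A_pow h hs H hc hsc h35 ha hsa⟩
  · push Not at hA
    refine ⟨1, K.one_mem, by simp, by simp [H.tt], Or.inl rfl, ?_⟩
    intro a ha hsa
    exact ⟨0, by rw [hA a ha hsa, pow_zero]⟩

end Apart

/-- A link. -/
structure Link (t s x c : G) : Prop where
  cfg : Cfg t s x
  c35 : orderOf c = 3 ∨ orderOf c = 5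
  sc : s * c = c * s
  tc : t * c * t = c⁻¹
  xc : x * c = c * x

theorem Link.cfgc (h : Fus G) {t s x c : G} (L : Link t s x c) : Cfg s (t * s) c := by
  have A := (arr_of L.cfg).next h
  refine ⟨A.t2, A.s2, A.ts, A.sF, L.sc, L.c35, ?_⟩
  have hss := mul_self_of_orderOf_two L.cfg.s2
  calc t * s * c * (t * s) = t * s * c * (s * t) := by rw [L.cfg.ts]
    _ = t * (s * c) * s * t := by group
    _ = t * c * (s * s) * t := by rw [L.sc]; group
    _ = t * c * t := by rw [hss]; group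
    _ = c⁻¹ := L.tc

theorem Link.of_cfgc {t s x c : G} (C : Cfg t s x) (C' : Cfg s (t * s) c) (hxc : x * c = c * x) :
    Link t s x c := by
  refine ⟨C, C'.x35, C'.tx, ?_, hxc⟩
  have hss := mul_self_of_orderOf_two C.s2
  have e := C'.inv
  calc t * c * t = t * c * (s * s) * t := by rw [hss]; group
    _ = t * (c * s) * s * t := by group
    _ = t * (s * c) * s * t := by rw [C'.tx]
    _ = t * s * c * (s * t) := by group
    _ = t * s * c * (t * s) := by rw [C.ts]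
    _ = c⁻¹ := e

theorem pow_gen {x y : G} (hx : orderOf x = 3 ∨ orderOf x = 5) (hy : y ≠ 1) {k : ℕ} (e : y = x ^ k) :
    ∃ m : ℕ, x = y ^ m := by
  have hcop : (orderOf x).Coprime k := by
    have hp : (orderOf x).Prime := by
      rcases hx with h | h <;> rw [h]
      · exact Nat.prime_three
      · exact Nat.prime_five
    rw [hp.coprime_iff_not_dvd]
    intro hd
    apply hy
    rw [e]
    exact orderOf_dvd_iff_pow_eq_one.1 hd
  obtain ⟨m, hm⟩ := exists_pow_eq_self_of_coprime hcop.symm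
  exact ⟨m, by rw [e]; exact hm.symm⟩

theorem orderOf_of_pow {x y : G} (hx : orderOf x = 3 ∨ orderOf x = 5) (hy : y ≠ 1) {k : ℕ}
    (e : y = x ^ k) : orderOf y = orderOf x := by
  obtain ⟨m, hm⟩ := pow_gen hx hy e
  apply Nat.dvd_antisymm
  · rw [e]; exact orderOf_pow_dvd k
  · calc orderOf x = orderOf (y ^ m) := by rw [← hm]
      _ ∣ orderOf y := orderOf_pow_dvd m

theorem ne_one_of35 {x : G} (hx : orderOf x = 3 ∨ orderOf x = 5) : x ≠ 1 := by
  rintro rfl
  simp at hx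

theorem orderOf_conj' (g x : G) : orderOf (g * x * g⁻¹) = orderOf x :=
  orderOf_injective (MulAut.conj g).toMonoidHom (MulAut.conj g).injective x

theorem conj_comm {g a b a' b' : G} (ha : g * a * g⁻¹ = a') (hb : g * b * g⁻¹ = b')
    (hab : a * b = b * a) : a' * b' = b' * a' := by
  rw [← ha, ← hb]
  calc g * a * g⁻¹ * (g * b * g⁻¹) = g * (a * b) * g⁻¹ := by group
    _ = g * (b * a) * g⁻¹ := by rw [hab]
    _ = _ := by group

theorem conj_invt {g t c t' c' : G} (ht : g * t * g⁻¹ = t') (hc : g * c * g⁻¹ = c')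
    (hab : t * c * t = c⁻¹) : t' * c' * t' = c'⁻¹ := by
  rw [← ht, ← hc]
  calc g * t * g⁻¹ * (g * c * g⁻¹) * (g * t * g⁻¹) = g * (t * c * t) * g⁻¹ := by group
    _ = g * c⁻¹ * g⁻¹ := by rw [hab]
    _ = _ := by group

section Fin
variable [Finite G]

theorem fwd_unique (h : Fus G) {t s x c c' : G} (L : Link t s x c) (L' : Link t s x c') :
    ∃ k : ℕ, c' = c ^ k := by
  obtain ⟨K, hK, -⟩ := exists_K h L.cfg.t2 L.cfg.tx L.cfg.x35
  have H := hyp_of h (cfg0_of L.cfg) hK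
  exact A_pow h L.cfg.s2 H ((hK c).2 ⟨L.xc.symm, odd_of35 L.c35⟩) L.sc L.c35
    ((hK c').2 ⟨L'.xc.symm, odd_of35 L'.c35⟩) L'.sc

theorem bwd_unique (h : Fus G) {t s x x' c : G} (L : Link t s x c) (L' : Link t s x' c) :
    ∃ k : ℕ, x' = x ^ k := by
  have C0 : Cfg0 s t c := ⟨L.cfg.s2, L.cfg.t2, L.cfg.ts.symm, L.sc, L.c35, L.tc⟩
  obtain ⟨K, hK, -⟩ := exists_K h C0.t2 C0.tx C0.x35
  have H := hyp_of h C0 hK
  exact A_pow h L.cfg.t2 H ((hK x).2 ⟨L.xc, odd_of35 L.cfg.x35⟩) L.cfg.tx L.cfg.x35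
    ((hK x').2 ⟨L'.xc, odd_of35 L'.cfg.x35⟩) L'.cfg.tx

theorem fwd_order (h : Fus G) {t s x c c' : G} (L : Link t s x c) (L' : Link t s x c') :
    orderOf c' = orderOf c := by
  obtain ⟨k, hk⟩ := fwd_unique h L L'
  exact orderOf_of_pow L.c35 (ne_one_of35 L'.c35) hk

theorem bwd_order (h : Fus G) {t s x x' c : G} (L : Link t s x c) (L' : Link t s x' c) :
    orderOf x' = orderOf x := by
  obtain ⟨k, hk⟩ := bwd_unique h L L'
  exact orderOf_of_pow L.cfg.x35 (ne_one_of35 L'.cfg.x35) hk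

/-- Transport of a link along a configuration on the first side. -/
theorem transport_fwd (h : Fus G) {t s x c t' s' x' : G} (L : Link t s x c) (C : Cfg t' s' x')
    (ho : orderOf x = orderOf x') :
    ∃ g : G, g * t * g⁻¹ = t' ∧ g * s * g⁻¹ = s' ∧ (∃ k : ℕ, g * x * g⁻¹ = x' ^ k) ∧
      Link t' s' x' (g * c * g⁻¹) := by
  obtain ⟨g, h1, h2, k, h3⟩ := conj_cfg h L.cfg C ho
  refine ⟨g, h1, h2, ⟨k, h3⟩, C, ?_, conj_comm h2 rfl L.sc, conj_invt h1 rfl L.tc, ?_⟩
  · rw [orderOf_conj']; exact L.c35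
  · have hne : g * x * g⁻¹ ≠ 1 := by
      apply ne_one_of35
      rw [orderOf_conj']; exact L.cfg.x35
    obtain ⟨m, hm⟩ := pow_gen C.x35 hne h3
    have hc : Commute (g * x * g⁻¹) (g * c * g⁻¹) := conj_comm rfl rfl L.xc
    have := (hc.pow_left m).eq
    rw [← hm] at this
    exact this

/-- Transport of a link along a configuration on the second side. -/
theorem transport_bwd (h : Fus G) {t s x c t' s' c' : G} (L : Link t s x c) (A : Arr t' s')
    (C : Cfg s' (t' * s') c') (ho : orderOf c = orderOf c') :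
    ∃ g : G, g * t * g⁻¹ = t' ∧ g * s * g⁻¹ = s' ∧ (∃ k : ℕ, g * c * g⁻¹ = c' ^ k) ∧
      Link t' s' (g * x * g⁻¹) c' := by
  obtain ⟨g, h1, h2, k, h3⟩ := conj_cfg h (L.cfgc h) C ho
  have hs's' := mul_self_of_orderOf_two A.s2
  have hss := mul_self_of_orderOf_two L.cfg.s2
  have h4 : g * t * g⁻¹ = t' := by
    calc g * t * g⁻¹ = g * (t * (s * s)) * g⁻¹ := by rw [hss, mul_one]
      _ = (g * (t * s) * g⁻¹) * (g * s * g⁻¹) := by group
      _ = t' * s' * s' := by rw [h2, h1]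
      _ = t' := by rw [mul_assoc, hs's', mul_one]
  refine ⟨g, h4, h1, ⟨k, h3⟩, ?_⟩
  have hC : Cfg t' s' (g * x * g⁻¹) := by
    refine ⟨A.t2, A.s2, A.ts, A.sF, conj_comm h4 rfl L.cfg.tx, ?_, conj_invt h1 rfl L.cfg.inv⟩
    rw [orderOf_conj']; exact L.cfg.x35
  apply Link.of_cfgc hC C
  have hne : g * c * g⁻¹ ≠ 1 := by
    apply ne_one_of35
    rw [orderOf_conj']; exact L.c35
  obtain ⟨m, hm⟩ := pow_gen C.x35 hne h3
  have hc : Commute (g * x * g⁻¹) (g * c * g⁻¹) := conj_comm rfl rfl L.xc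
  have := (hc.pow_right m).eq
  rw [← hm] at this
  exact this

/-- `LL p q`: there is a link with orders `p`, `q`. -/
def LL (G : Type*) [Group G] (p q : ℕ) : Prop :=
  ∃ t s x c : G, Link t s x c ∧ orderOf x = p ∧ orderOf c = q

theorem LL_fun (h : Fus G) {p q q' : ℕ} (h1 : LL G p q) (h2 : LL G p q') : q = q' := by
  obtain ⟨t, s, x, c, L, e1, e2⟩ := h1
  obtain ⟨t', s', x', c', L', e1', e2'⟩ := h2
  obtain ⟨g, -, -, -, L2⟩ := transport_fwd h L L'.cfg (by rw [e1, e1'])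
  have := fwd_order h L' L2
  rw [orderOf_conj', e2, e2'] at this
  exact this

theorem LL_inj (h : Fus G) {p p' q : ℕ} (h1 : LL G p q) (h2 : LL G p' q) : p = p' := by
  obtain ⟨t, s, x, c, L, e1, e2⟩ := h1
  obtain ⟨t', s', x', c', L', e1', e2'⟩ := h2
  obtain ⟨g, -, -, -, L2⟩ := transport_bwd h L (arr_of L'.cfg) (L'.cfgc h) (by rw [e2, e2'])
  have := bwd_order h L' L2
  rw [orderOf_conj', e1, e1'] at this
  exact this

/-- The shape of `K` for a configuration. -/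
theorem K_shape (h : Fus G) {t s x : G} (C : Cfg t s x) {K : Subgroup G}
    (hK : ∀ c, c ∈ K ↔ (c * x = x * c ∧ Odd (orderOf c))) :
    ∃ c ∈ K, ∃ d ∈ K, (c = 1 ∨ Link t s x c) ∧ (d = 1 ∨ Link (t * s) t d x) ∧
      ∀ k ∈ K, ∃ i j l : ℕ, k = c ^ i * d ^ j * x ^ l := by
  have A := arr_of C
  have H := hyp_of h (cfg0_of C) hK
  have C1 := cfg0_prod (cfg0_of C) (A.prod2 h)
  have H1 := hyp_of h C1 hK
  obtain ⟨c, hcK, hsc, htc, hc, hgenc⟩ := A_gen h C.s2 H
  obtain ⟨d, hdK, hsd, htd, hd, hgend⟩ := A_gen h (A.prod2 h) H1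
  refine ⟨c, hcK, d, hdK, ?_, ?_, ?_⟩
  · rcases hc with h1 | h1
    · exact Or.inl h1
    · exact Or.inr ⟨C, h1, hsc, htc, (((hK c).1 hcK).1).symm⟩
  · rcases hd with h1 | h1
    · exact Or.inl h1
    · right
      have A2 := A.prev h
      refine ⟨⟨A2.t2, A2.s2, A2.ts, A2.sF, hsd, h1, htd⟩, C.x35, C.tx, C1.inv, ?_⟩
      exact ((hK d).1 hdK).1
  · intro k hk
    obtain ⟨a, ha, hsa, b, hb, hsb, z, hz, e⟩ := H.decomp hk
    obtain ⟨i, hi⟩ := hgenc a ha hsa
    obtain ⟨j, hj⟩ := hgend b hb hsb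
    have hfin : IsOfFinOrder x := isOfFinOrder_of_finite x
    obtain ⟨l, hl⟩ := (hfin.mem_powers_iff_mem_zpowers.2 hz : z ∈ Submonoid.powers x)
    exact ⟨i, j, l, by rw [e, hi, hj]; simp only at hl; rw [hl]⟩

theorem card_le_of_shape {K : Subgroup G} {c d x : G}
    (hsh : ∀ k ∈ K, ∃ i j l : ℕ, k = c ^ i * d ^ j * x ^ l) :
    Nat.card K ≤ orderOf c * orderOf d * orderOf x := by
  have key : ∀ y : G, ∀ i : ℕ, ∃ i' : Fin (orderOf y), y ^ i = y ^ (i' : ℕ) := by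
    intro y i
    have hpos : 0 < orderOf y := orderOf_pos y
    exact ⟨⟨i % orderOf y, Nat.mod_lt _ hpos⟩, (pow_mod_orderOf y i).symm⟩
  let f : Fin (orderOf c) × Fin (orderOf d) × Fin (orderOf x) → G :=
    fun p => c ^ (p.1 : ℕ) * d ^ (p.2.1 : ℕ) * x ^ (p.2.2 : ℕ)
  have hsub : (K : Set G) ⊆ Set.range f := by
    intro k hk
    obtain ⟨i, j, l, e⟩ := hsh k hk
    obtain ⟨i', hi⟩ := key c i
    obtain ⟨j', hj⟩ := key d j
    obtain ⟨l', hl⟩ := key x l
    exact ⟨(i', j', l'), by rw [e, hi, hj, hl]⟩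
  calc Nat.card K = Nat.card (K : Set G) := rfl
    _ ≤ Nat.card (Set.range f) := Nat.card_mono (Set.toFinite _) hsub
    _ ≤ Nat.card (Fin (orderOf c) × Fin (orderOf d) × Fin (orderOf x)) :=
        Nat.card_le_card_of_surjective _ Set.rangeFactorization_surjective
    _ = orderOf c * orderOf d * orderOf x := by
        rw [Nat.card_prod, Nat.card_prod, Nat.card_fin, Nat.card_fin, Nat.card_fin, mul_assoc]

end Fin

end Cfsg.Agent.SporadicB.J1Local.Links
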