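import Mathlib
import Cfsg.Agent.SporadicB.J1Local.Four

/-!
Exclusion of links of type `(p, p)`.
-/

set_option autoImplicit false

namespace Cfsg.Agent.SporadicB.J1Local.Excl

open Cfsg.Agent.SporRec.J1.Defs Cfsg.Agent.SporadicB.J1Local.Defs
open Cfsg.Agent.SporadicB.J1Local.Cent Cfsg.Agent.SporadicB.J1Local.Cent2
open Cfsg.Agent.SporadicB.J1Local.Kstr Cfsg.Agent.SporadicB.J1Local.OddK
open Cfsg.Agent.SporadicB.J1Local.Links Cfsg.Agent.SporadicB.J1Local.Four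

variable {G : Type*} [Group G]

theorem iter {n c z : G} (h1 : n * c = c * z * n) (h2 : n * z = z * n) (m : ℕ) :
    n ^ m * c = c * z ^ m * n ^ m := by
  induction m with
  | zero => simp
  | succ m ih =>
    have hc : Commute n z := h2
    calc n ^ (m + 1) * c = n * (n ^ m * c) := by rw [pow_succ']; group
      _ = (n * c) * z ^ m * n ^ m := by rw [ih]; group
      _ = c * z * (n * z ^ m) * n ^ m := by rw [h1]; group
      _ = c * z * (z ^ m * n) * n ^ m := by rw [(hc.pow_right m).eq]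
      _ = c * (z * z ^ m) * (n * n ^ m) := by group
      _ = c * z ^ (m + 1) * n ^ (m + 1) := by rw [← pow_succ', ← pow_succ']

theorem quad [Finite G] (h : Fus G) {w x c : G} (hw1 : w * x * w⁻¹ = c⁻¹) (hw2 : w * c * w⁻¹ = x)
    (hx : orderOf x = 3 ∨ orderOf x = 5) : False := by
  have e1 : w ^ 2 * x * (w ^ 2)⁻¹ = x⁻¹ := by
    calc w ^ 2 * x * (w ^ 2)⁻¹ = w * (w * x * w⁻¹) * w⁻¹ := by rw [pow_two]; group
      _ = (w * c * w⁻¹)⁻¹ := by rw [hw1]; group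
      _ = x⁻¹ := by rw [hw2]
  have e2 : w ^ 8 * x = x * w ^ 8 := by
    have e4 : w ^ 4 * x * (w ^ 4)⁻¹ = x := by
      calc w ^ 4 * x * (w ^ 4)⁻¹ = w ^ 2 * (w ^ 2 * x * (w ^ 2)⁻¹) * (w ^ 2)⁻¹ := by group
        _ = w ^ 2 * x⁻¹ * (w ^ 2)⁻¹ := by rw [e1]
        _ = (w ^ 2 * x * (w ^ 2)⁻¹)⁻¹ := by group
        _ = x := by rw [e1, inv_inv]
    have e5 : w ^ 4 * x = x * w ^ 4 := by
      calc w ^ 4 * x = (w ^ 4 * x * (w ^ 4)⁻¹) * w ^ 4 := by group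
        _ = x * w ^ 4 := by rw [e4]
    have hc : Commute (w ^ 4) x := e5
    have e6 : w ^ 8 = w ^ 4 * w ^ 4 := by group
    rw [e6]; exact (hc.mul_left hc).eq
  have e3 := sq_comm h e2
  have e4 : x = x⁻¹ := by
    calc x = x * w ^ 2 * (w ^ 2)⁻¹ := by group
      _ = w ^ 2 * x * (w ^ 2)⁻¹ := by rw [e3]
      _ = x⁻¹ := e1
  have e5 : x * x = 1 := by
    nth_rewrite 1 [e4]; group
  exact ne_one_of35 hx (eq_one_of_odd_sq (odd_of35 hx) e5)

theorem mem_zpowers_pow [Finite G] {z x : G} (hz : z ∈ Subgroup.zpowers x) : ∃ k : ℕ, z = x ^ k := by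
  have hfin : IsOfFinOrder x := isOfFinOrder_of_finite x
  obtain ⟨l, hl⟩ := (hfin.mem_powers_iff_mem_zpowers.2 hz : z ∈ Submonoid.powers x)
  exact ⟨l, hl.symm⟩

/-- Common data: `t → s → ts`, `x`, `c`, `d` and the element `g`. -/
theorem setup [Finite G] (h : Fus G) {t s x c d : G} (L : Link t s x c) (L' : Link (t * s) t d x)
    (hc : orderOf x = orderOf c) :
    ∃ g : G, g * t * g⁻¹ = s ∧ g * s * g⁻¹ = t * s ∧ g * (t * s) * g⁻¹ = t ∧
      (∃ k : ℕ, g * x * g⁻¹ = c ^ k) ∧ (∃ k : ℕ, g * d * g⁻¹ = x ^ k) ∧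
      (∃ m : ℕ, c = (g * x * g⁻¹) ^ m) := by
  have hss := mul_self_of_orderOf_two L.cfg.s2
  have htt := mul_self_of_orderOf_two L.cfg.t2
  obtain ⟨g, h1, h2, k, h3⟩ := conj_cfg h L.cfg (L.cfgc h) hc
  have h4 : g * (t * s) * g⁻¹ = t := by
    calc g * (t * s) * g⁻¹ = (g * t * g⁻¹) * (g * s * g⁻¹) := by group
      _ = s * (t * s) := by rw [h1, h2]
      _ = (s * t) * s := by group
      _ = t * (s * s) := by rw [← L.cfg.ts]; group
      _ = t := by rw [hss, mul_one]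
  have hne : g * x * g⁻¹ ≠ 1 := by
    apply ne_one_of35
    rw [orderOf_conj']; exact L.cfg.x35
  have hx1 : orderOf (g * x * g⁻¹) = 3 ∨ orderOf (g * x * g⁻¹) = 5 := by
    rw [orderOf_conj']; exact L.cfg.x35
  obtain ⟨m, hm⟩ := pow_gen L.c35 hne h3
  -- Link t s x x1
  have L1 : Link t s x (g * x * g⁻¹) := by
    refine ⟨L.cfg, hx1, ?_, ?_, ?_⟩
    · rw [h3]; exact ((show Commute s c from L.sc).pow_right k).eq
    · rw [h3]
      exact conj_zpow_inv htt L.tc (Subgroup.npow_mem_zpowers c k)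
    · rw [h3]; exact ((show Commute x c from L.xc).pow_right k).eq
  -- Link t s d1 x1
  have L2 : Link t s (g * d * g⁻¹) (g * x * g⁻¹) := by
    have C := L'.cfg
    refine ⟨⟨L.cfg.t2, L.cfg.s2, L.cfg.ts, L.cfg.sF, conj_comm h4 rfl C.tx, ?_,
      conj_invt h1 rfl C.inv⟩, hx1, L1.sc, L1.tc, conj_comm rfl rfl L'.xc⟩
    rw [orderOf_conj']; exact C.x35
  obtain ⟨j, hj⟩ := bwd_unique h L1 L2
  exact ⟨g, h1, h2, h4, ⟨k, h3⟩, ⟨j, hj⟩, ⟨m, hm⟩⟩

/-- The hexagon case. -/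
theorem hex [Finite G] (h : Fus G) {t s x c d : G} (L : Link t s x c) (L' : Link (t * s) t d x)
    (hc : orderOf x = orderOf c) (hcd : c * d ≠ d * c) : False := by
  obtain ⟨g, h1, h2, h4, ⟨k, h3⟩, ⟨j, hj⟩, ⟨m, hm⟩⟩ := setup h L L' hc
  -- c1 := g c g⁻¹ commutes with c, not with x
  have hc1c : (g * c * g⁻¹) * c = c * (g * c * g⁻¹) := by
    have e1 : Commute (g * x * g⁻¹) (g * c * g⁻¹) := conj_comm rfl rfl L.xc
    have e2 := (e1.pow_left m).eq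
    rw [← hm] at e2
    exact e2.symm
  have hc1x : ¬ (g * c * g⁻¹) * x = x * (g * c * g⁻¹) := by
    intro e
    have e1 : Commute (g * c * g⁻¹) x := e
    have e2 := (e1.pow_right j).eq
    rw [← hj] at e2
    apply hcd
    calc c * d = g⁻¹ * ((g * c * g⁻¹) * (g * d * g⁻¹)) * g := by group
      _ = g⁻¹ * ((g * d * g⁻¹) * (g * c * g⁻¹)) * g := by rw [e2]
      _ = d * c := by group
  have hc135 : orderOf (g * c * g⁻¹) = 3 ∨ orderOf (g * c * g⁻¹) = 5 := by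
    rw [orderOf_conj']; exact L.c35
  set c1 := g * c * g⁻¹ with hc1
  -- K_x
  obtain ⟨K, hK, -⟩ := exists_K h L.cfg.t2 L.cfg.tx L.cfg.x35
  have H := hyp_of h (cfg0_of L.cfg) hK
  have hcK : c ∈ K := (hK c).2 ⟨L.xc.symm, odd_of35 L.c35⟩
  have hdK : d ∈ K := (hK d).2 ⟨L'.xc, odd_of35 L'.cfg.x35⟩
  obtain ⟨z, hz, ez⟩ := H.ab hcK hdK
  have hz1 : z ≠ 1 := by
    rintro rfl
    rw [mul_one] at ez; exact hcd ez
  obtain ⟨i, hi⟩ := mem_zpowers_pow hz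
  obtain ⟨a, ha⟩ := pow_gen L.cfg.x35 hz1 hi
  -- n := (d⁻¹)^a
  have hzd : z * d = d * z := (H.zc hz hdK).symm
  have n1 : d⁻¹ * c = c * z * d⁻¹ := by
    have e1 : d * (c * z) = c * d := by rw [ez]; group
    calc d⁻¹ * c = d⁻¹ * (c * d) * d⁻¹ := by group
      _ = d⁻¹ * (d * (c * z)) * d⁻¹ := by rw [e1]
      _ = _ := by group
  have n2 : d⁻¹ * z = z * d⁻¹ := ((show Commute z d from hzd).inv_right.eq).symm
  have n3 := iter n1 n2 a
  rw [← ha] at n3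
  have hnx : (d⁻¹) ^ a * x = x * (d⁻¹) ^ a := by
    have e1 : Commute d x := L'.xc
    exact ((e1.inv_left).pow_left a).eq
  set n := (d⁻¹) ^ a with hn
  -- K_c
  obtain ⟨K', hK', -⟩ := exists_K h L.cfg.s2 L.sc L.c35
  have H' := hyp_of h (cfg0_of (L.cfgc h)) hK'
  have hxK : x ∈ K' := (hK' x).2 ⟨L.xc, odd_of35 L.cfg.x35⟩
  have hc1K : c1 ∈ K' := (hK' c1).2 ⟨hc1c, odd_of35 hc135⟩
  obtain ⟨z', hz', ez'⟩ := H'.ab hxK hc1K
  have hz1' : z' ≠ 1 := by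
    rintro rfl
    rw [mul_one] at ez'; exact hc1x ez'.symm
  obtain ⟨i', hi'⟩ := mem_zpowers_pow hz'
  obtain ⟨a', ha'⟩ := pow_gen L.c35 hz1' hi'
  have hzd' : z' * c1 = c1 * z' := (H'.zc hz' hc1K).symm
  have l1 : c1⁻¹ * x = x * z' * c1⁻¹ := by
    have e1 : c1 * (x * z') = x * c1 := by rw [ez']; group
    calc c1⁻¹ * x = c1⁻¹ * (x * c1) * c1⁻¹ := by group
      _ = c1⁻¹ * (c1 * (x * z')) * c1⁻¹ := by rw [e1]
      _ = _ := by group
  have l2 : c1⁻¹ * z' = z' * c1⁻¹ := ((show Commute z' c1 from hzd').inv_right.eq).symm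
  have l3 := iter l1 l2 a'
  rw [← ha'] at l3
  have hlc : (c1⁻¹) ^ a' * c = c * (c1⁻¹) ^ a' := by
    have e1 : Commute c1 c := hc1c
    exact ((e1.inv_left).pow_left a').eq
  set l := (c1⁻¹) ^ a' with hl
  -- l x l⁻¹ = x c, so l⁻¹ x l = x c⁻¹
  have l4 : l⁻¹ * x * l = x * c⁻¹ := by
    have e1 : l * (x * c⁻¹) = x * l := by
      have e2 : l * c⁻¹ = c⁻¹ * l := ((show Commute l c from hlc).inv_right).eq
      calc l * (x * c⁻¹) = (l * x) * c⁻¹ := by group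
        _ = x * c * l * c⁻¹ := by rw [l3]
        _ = x * c * (l * c⁻¹) := by group
        _ = x * c * (c⁻¹ * l) := by rw [e2]
        _ = x * l := by group
    calc l⁻¹ * x * l = l⁻¹ * (x * l) := by group
      _ = l⁻¹ * (l * (x * c⁻¹)) := by rw [e1]
      _ = _ := by group
  have l5 : l⁻¹ * c * l = c := by
    calc l⁻¹ * c * l = l⁻¹ * (c * l) := by group
      _ = l⁻¹ * (l * c) := by rw [hlc]
      _ = c := by group
  have n4 : n * c * n⁻¹ = c * x := by rw [n3]; group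
  have n5 : n * x * n⁻¹ = x := by rw [hnx]; group
  have hxc : c * x = x * c := L.xc.symm
  apply quad h (w := n * l⁻¹ * n) (x := x) (c := c) _ _ L.cfg.x35
  · calc n * l⁻¹ * n * x * (n * l⁻¹ * n)⁻¹ = n * (l⁻¹ * (n * x * n⁻¹) * l) * n⁻¹ := by group
      _ = n * (x * c⁻¹) * n⁻¹ := by rw [n5, l4]
      _ = (n * x * n⁻¹) * (n * c * n⁻¹)⁻¹ := by group
      _ = x * (c * x)⁻¹ := by rw [n5, n4]
      _ = c⁻¹ := by group
  · calc n * l⁻¹ * n * c * (n * l⁻¹ * n)⁻¹ = n * (l⁻¹ * (n * c * n⁻¹) * l) * n⁻¹ := by group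
      _ = n * ((l⁻¹ * c * l) * (l⁻¹ * x * l)) * n⁻¹ := by rw [n4]; group
      _ = n * (c * (x * c⁻¹)) * n⁻¹ := by rw [l5, l4]
      _ = n * ((c * x) * c⁻¹) * n⁻¹ := by group
      _ = n * ((x * c) * c⁻¹) * n⁻¹ := by rw [hxc]
      _ = n * x * n⁻¹ := by group
      _ = x := n5

end Cfsg.Agent.SporadicB.J1Local.Excl
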