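import Mathlib
import Cfsg.Agent.SporadicB.J1Local.Excl

/-!
Exclusion of links of type `(p, p)`, abelian case: an element of order 3 permuting the axes.
-/

set_option autoImplicit false

namespace Cfsg.Agent.SporadicB.J1Local.Tri

open Cfsg.Agent.SporRec.J1.Defs Cfsg.Agent.SporadicB.J1Local.Defs
open Cfsg.Agent.SporadicB.J1Local.Cent Cfsg.Agent.SporadicB.J1Local.Cent2
open Cfsg.Agent.SporadicB.J1Local.Kstr Cfsg.Agent.SporadicB.J1Local.OddK
open Cfsg.Agent.SporadicB.J1Local.Links Cfsg.Agent.SporadicB.J1Local.Four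
open Cfsg.Agent.SporadicB.J1Local.Excl

variable {G : Type*} [Group G]

set_option synthInstance.maxSize 100000 in
theorem a5_exists_four : ∀ s : alternatingGroup (Fin 5), s * s = 1 → s ≠ 1 →
    ∃ a : alternatingGroup (Fin 5), a * s = s * a ∧ a ≠ 1 ∧ a ≠ s := by
  decide +kernel

/-- Membership in the four-group `{1, t, s, ts}`. -/
def InV (t s a : G) : Prop := a = 1 ∨ a = t ∨ a = s ∨ a = t * s

theorem inV_mul {t s a b : G} (A : Arr t s) (ha : InV t s a) (hb : InV t s b) : InV t s (a * b) := by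
  have htt := mul_self_of_orderOf_two A.t2
  have hss := mul_self_of_orderOf_two A.s2
  have hts := A.ts
  unfold InV at *
  rcases ha with rfl | rfl | rfl | rfl <;> rcases hb with rfl | rfl | rfl | rfl
  · left; simp
  · right; left; simp
  · right; right; left; simp
  · right; right; right; simp
  · right; left; simp
  · left; exact htt
  · right; right; right; rfl
  · right; right; left; rw [← mul_assoc, htt, one_mul]
  · right; right; left; simp
  · right; right; right; exact hts.symm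
  · left; exact hss
  · right; left; rw [hts, ← mul_assoc, hss, one_mul]
  · right; right; right; simp
  · right; right; left; rw [hts, mul_assoc, htt, mul_one]
  · right; left; rw [mul_assoc, hss, mul_one]
  · left
    calc t * s * (t * s) = t * (s * t) * s := by group
      _ = t * (t * s) * s := by rw [hts]
      _ = (t * t) * (s * s) := by group
      _ = 1 := by rw [htt, hss, one_mul]

theorem inV_inv {t s a : G} (A : Arr t s) (ha : InV t s a) : InV t s a⁻¹ := by
  have htt := mul_self_of_orderOf_two A.t2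
  have hss := mul_self_of_orderOf_two A.s2
  have hts := A.ts
  have e1 : t⁻¹ = t := inv_eq_of_mul_eq_one_left htt
  have e2 : s⁻¹ = s := inv_eq_of_mul_eq_one_left hss
  unfold InV at *
  rcases ha with rfl | rfl | rfl | rfl
  · left; simp
  · right; left; exact e1
  · right; right; left; exact e2
  · right; right; right; rw [mul_inv_rev, e1, e2, hts]

theorem exists_w (h : Fus G) {t s : G} (A : Arr t s) :
    ∃ w : G, t * w = w * t ∧ s * w = w * s ∧ ¬ InV t s w := by
  obtain ⟨φ, P⟩ := par h A.t2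
  obtain ⟨s1, hs1⟩ := (P.memF _).1 A.sF
  have hss := mul_self_of_orderOf_two A.s2
  have hs2 : s1 * s1 = 1 := P.inj (by rw [map_mul, ← hs1, hss, map_one])
  have hs3 : s1 ≠ 1 := by
    rintro rfl
    exact ne_one_of_orderOf_two A.s2 (by rw [hs1, map_one])
  obtain ⟨a, h1, h2, h3⟩ := a5_exists_four s1 hs2 hs3
  refine ⟨φ a, P.comm a, ?_, ?_⟩
  · rw [hs1, ← map_mul, ← map_mul, h1]
  · rintro (e | e | e | e)
    · exact h2 (P.inj (by rw [e, map_one]))
    · exact P.ne a e
    · exact h3 (P.inj (by rw [e, hs1]))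
    · apply P.ne (a * s1⁻¹)
      rw [map_mul, map_inv, ← hs1, e]; group

theorem comm_of_sq {a b : G} (ha : a * a = 1) (hb : b * b = 1) (hab : (a * b) * (a * b) = 1) :
    a * b = b * a := by
  have e1 : a⁻¹ = a := inv_eq_of_mul_eq_one_left ha
  have e2 : b⁻¹ = b := inv_eq_of_mul_eq_one_left hb
  calc a * b = (a * b)⁻¹ := (inv_eq_of_mul_eq_one_left hab).symm
    _ = b⁻¹ * a⁻¹ := by group
    _ = b * a := by rw [e1, e2]

/-- The data of the triangle case. -/
structure TriData (t s x : G) (r x1 x2 v : G) : Prop where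
  A : Arr t s
  r3 : orderOf r = 3
  rt : r * t * r⁻¹ = s
  rs : r * s * r⁻¹ = t * s
  rx : r * x * r⁻¹ = x1
  rx1 : r * x1 * r⁻¹ = x2
  rx2 : r * x2 * r⁻¹ = x
  c01 : x * x1 = x1 * x
  c02 : x * x2 = x2 * x
  c12 : x1 * x2 = x2 * x1
  tx : t * x = x * t
  sx : s * x * s = x⁻¹
  t1 : t * x1 * t = x1⁻¹
  t2 : t * x2 * t = x2⁻¹
  tv : t * v = v * t
  sv : s * v = v * s
  rv : r * v = v * r
  v2 : v * v = 1
  nv : ¬ InV t s v

theorem tri_data [Finite G] (h : Fus G) {t s x c d : G} (L : Link t s x c) (L' : Link (t * s) t d x)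
    (hc : orderOf x = orderOf c) (hcd : c * d = d * c) :
    ∃ r x1 x2 v : G, TriData t s x r x1 x2 v := by
  have A := arr_of L.cfg
  have hss := mul_self_of_orderOf_two L.cfg.s2
  have htt := mul_self_of_orderOf_two L.cfg.t2
  obtain ⟨g, h1, h2, h4, ⟨k, h3⟩, ⟨j, hj⟩, ⟨m, hm⟩⟩ := setup h L L' hc
  -- Link s (ts) c d
  have hsd : s * d * s = d⁻¹ := by
    have e := L'.cfg.inv
    have e0 := L'.cfg.tx
    have e1 : Commute (t * s) d := e0
    have e2 : s = t * (t * s) := by rw [← mul_assoc, htt, one_mul]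
    have e3 : s = (t * s) * t := by rw [A.ts, mul_assoc, htt, mul_one]
    calc s * d * s = (t * (t * s)) * d * ((t * s) * t) := by rw [← e2, ← e3]
      _ = t * ((t * s) * d) * (t * s) * t := by group
      _ = t * (d * (t * s)) * (t * s) * t := by rw [e1.eq]
      _ = t * d * ((t * s) * (t * s)) * t := by group
      _ = t * d * t := by rw [mul_self_of_orderOf_two (A.prod2 h), mul_one]
      _ = d⁻¹ := e
  have L3 : Link s (t * s) c d := ⟨L.cfgc h, L'.cfg.x35, L'.cfg.tx, hsd, hcd⟩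
  have L4 : Link s (t * s) c (g * c * g⁻¹) := by
    refine ⟨L.cfgc h, ?_, conj_comm h2 rfl L.sc, conj_invt h1 rfl L.tc, ?_⟩
    · rw [orderOf_conj']; exact L.c35
    · have e1 : Commute (g * x * g⁻¹) (g * c * g⁻¹) := conj_comm rfl rfl L.xc
      have e2 := (e1.pow_left m).eq
      rw [← hm] at e2
      exact e2
  obtain ⟨k2, hk2⟩ := fwd_unique h L3 L4
  -- g : x -> c^k, c -> d^k2, d -> x^j
  have g3t : g ^ 3 * t * (g ^ 3)⁻¹ = t := by
    calc g ^ 3 * t * (g ^ 3)⁻¹ = g * (g * (g * t * g⁻¹) * g⁻¹) * g⁻¹ := by rw [pow3]; group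
      _ = t := by rw [h1, h2, h4]
  have g3s : g ^ 3 * s * (g ^ 3)⁻¹ = s := by
    calc g ^ 3 * s * (g ^ 3)⁻¹ = g * (g * (g * s * g⁻¹) * g⁻¹) * g⁻¹ := by rw [pow3]; group
      _ = s := by rw [h2, h4, h1]
  have comm_of : ∀ a b : G, a * b * a⁻¹ = b → b * a = a * b := by
    intro a b e
    calc b * a = (a * b * a⁻¹) * a := by rw [e]
      _ = a * b := by group
  have g6 : g ^ 3 * g ^ 3 = 1 := cent_sq h A (comm_of _ _ g3t) (comm_of _ _ g3s)
  set r := g ^ 4 with hr
  have hr4 : r = g * g * g * g := by rw [hr]; simp only [pow_succ, pow_zero, one_mul]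
  have r3 : r ^ 3 = 1 := by
    calc r ^ 3 = (g ^ 3 * g ^ 3) ^ 2 := by rw [hr]; group
      _ = 1 := by rw [g6, one_pow]
  have rt : r * t * r⁻¹ = s := by
    calc r * t * r⁻¹ = g * (g ^ 3 * t * (g ^ 3)⁻¹) * g⁻¹ := by rw [hr]; group
      _ = s := by rw [g3t, h1]
  have rs : r * s * r⁻¹ = t * s := by
    calc r * s * r⁻¹ = g * (g ^ 3 * s * (g ^ 3)⁻¹) * g⁻¹ := by rw [hr]; group
      _ = t * s := by rw [g3s, h2]
  have rts : r * (t * s) * r⁻¹ = t := by
    calc r * (t * s) * r⁻¹ = g * ((g ^ 3 * t * (g ^ 3)⁻¹) * (g ^ 3 * s * (g ^ 3)⁻¹)) * g⁻¹ := by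
          rw [hr]; group
      _ = t := by rw [g3s, g3t, h4]
  have hr1 : r ≠ 1 := by
    intro e
    rw [e] at rt
    apply A.ne h
    rw [← rt]; group
  have ro : orderOf r = 3 := by
    have : Fact (Nat.Prime 3) := ⟨Nat.prime_three⟩
    exact orderOf_eq_prime r3 hr1
  -- r x r⁻¹ ∈ ⟨c⟩, etc.
  have gx : ∀ i : ℕ, g * x ^ i * g⁻¹ = c ^ (k * i) := by
    intro i; rw [conj_pow', h3, pow_mul]
  have gc : ∀ i : ℕ, g * c ^ i * g⁻¹ = d ^ (k2 * i) := by
    intro i; rw [conj_pow', hk2, pow_mul]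
  have gd : ∀ i : ℕ, g * d ^ i * g⁻¹ = x ^ (j * i) := by
    intro i; rw [conj_pow', hj, pow_mul]
  have rx : ∀ i : ℕ, ∃ i' : ℕ, r * x ^ i * r⁻¹ = c ^ i' := by
    intro i
    refine ⟨k * (j * (k2 * (k * i))), ?_⟩
    calc r * x ^ i * r⁻¹ = g * (g * (g * (g * x ^ i * g⁻¹) * g⁻¹) * g⁻¹) * g⁻¹ := by rw [hr4]; group
      _ = _ := by rw [gx, gc, gd, gx]
  have rc : ∀ i : ℕ, ∃ i' : ℕ, r * c ^ i * r⁻¹ = d ^ i' := by
    intro i
    refine ⟨k2 * (k * (j * (k2 * i))), ?_⟩
    calc r * c ^ i * r⁻¹ = g * (g * (g * (g * c ^ i * g⁻¹) * g⁻¹) * g⁻¹) * g⁻¹ := by rw [hr4]; group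
      _ = _ := by rw [gc, gd, gx, gc]
  obtain ⟨i1, hi1⟩ := rx 1
  rw [pow_one] at hi1
  obtain ⟨i2, hi2⟩ := rc i1
  have cxc : Commute x c := L.xc
  have cxd : Commute x d := (show Commute d x from L'.xc).symm
  have ccd : Commute c d := hcd
  -- the involution v
  obtain ⟨w, hw1, hw2, hw3⟩ := exists_w h A
  have hrinv : ∀ a : G, r * (r * (r * a * r⁻¹) * r⁻¹) * r⁻¹ = a := by
    intro a
    calc r * (r * (r * a * r⁻¹) * r⁻¹) * r⁻¹ = r ^ 3 * a * (r ^ 3)⁻¹ := by rw [pow3]; group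
      _ = a := by rw [r3]; group
  have conjS : ∀ a : G, t * a = a * t → s * a = a * s →
      t * (r * a * r⁻¹) = (r * a * r⁻¹) * t ∧ s * (r * a * r⁻¹) = (r * a * r⁻¹) * s := by
    intro a h1 h2
    refine ⟨?_, conj_comm rt rfl h1⟩
    have h3 : (t * s) * a = a * (t * s) := by
      have c1 : Commute t a := h1
      have c2 : Commute s a := h2
      exact (c1.mul_left c2).eq
    exact conj_comm rts rfl h3
  have rV : ∀ a : G, InV t s (r * a * r⁻¹) → InV t s a := by
    intro a ha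
    have e : a = r⁻¹ * (r * a * r⁻¹) * r := by group
    have ert : r⁻¹ * t * r = t * s := by
      calc r⁻¹ * t * r = r⁻¹ * (r * (t * s) * r⁻¹) * r := by rw [rts]
        _ = t * s := by group
    have ers : r⁻¹ * s * r = t := by
      calc r⁻¹ * s * r = r⁻¹ * (r * t * r⁻¹) * r := by rw [rt]
        _ = t := by group
    have erts : r⁻¹ * (t * s) * r = s := by
      calc r⁻¹ * (t * s) * r = r⁻¹ * (r * s * r⁻¹) * r := by rw [rs]
        _ = s := by group
    rcases ha with e1 | e1 | e1 | e1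
    · left; rw [e, e1]; group
    · right; right; right; rw [e, e1, ert]
    · right; left; rw [e, e1, ers]
    · right; right; left; rw [e, e1, erts]
  set w1 := r * w * r⁻¹ with hw1d
  set w2 := r * w1 * r⁻¹ with hw2d
  obtain ⟨hw11, hw12⟩ := conjS w hw1 hw2
  obtain ⟨hw21, hw22⟩ := conjS w1 hw11 hw12
  have nw1 : ¬ InV t s w1 := fun e => hw3 (rV w e)
  have nw2 : ¬ InV t s w2 := fun e => nw1 (rV w1 e)
  have hww1 : InV t s (w * w1) := by
    have e1 : w ≠ 1 ∧ w ≠ t ∧ w ≠ s ∧ w ≠ t * s := by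
      unfold InV at hw3; push Not at hw3; exact hw3
    have e2 : w1 ≠ 1 ∧ w1 ≠ t ∧ w1 ≠ s ∧ w1 ≠ t * s := by
      unfold InV at nw1; push Not at nw1; exact nw1
    exact cent_prod h A hw1 hw2 hw11 hw12 e1 e2
  have comS : ∀ a b : G, t * a = a * t → s * a = a * s → t * b = b * t → s * b = b * s →
      a * b = b * a := by
    intro a b a1 a2 b1 b2
    have ct : Commute t (a * b) := (show Commute t a from a1).mul_right (show Commute t b from b1)
    have cs : Commute s (a * b) := (show Commute s a from a2).mul_right (show Commute s b from b2)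
    exact comm_of_sq (cent_sq h A a1 a2) (cent_sq h A b1 b2) (cent_sq h A ct.eq cs.eq)
  have tv : t * (w * w1 * w2) = (w * w1 * w2) * t :=
    ((((show Commute t w from hw1).mul_right (show Commute t w1 from hw11)).mul_right
      (show Commute t w2 from hw21))).eq
  have sv : s * (w * w1 * w2) = (w * w1 * w2) * s :=
    ((((show Commute s w from hw2).mul_right (show Commute s w1 from hw12)).mul_right
      (show Commute s w2 from hw22))).eq
  refine ⟨r, r * x * r⁻¹, r * (r * x * r⁻¹) * r⁻¹, w * w1 * w2, A, ro, rt, rs, rfl, rfl, hrinv x,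
    ?_, ?_, ?_, L.cfg.tx, L.cfg.inv, ?_, ?_, tv, sv, ?_, cent_sq h A tv sv, ?_⟩
  · rw [hi1]; exact (cxc.pow_right i1).eq
  · rw [hi1, hi2]; exact (cxd.pow_right i2).eq
  · rw [hi1, hi2]; exact (ccd.pow_pow i1 i2).eq
  · rw [hi1]; exact conj_zpow_inv htt L.tc (Subgroup.npow_mem_zpowers c i1)
  · rw [hi1, hi2]; exact conj_zpow_inv htt L'.cfg.inv (Subgroup.npow_mem_zpowers d i2)
  · -- r v = v r
    have e1 : r * (w * w1 * w2) * r⁻¹ = w * w1 * w2 := by
      calc r * (w * w1 * w2) * r⁻¹ = (r * w * r⁻¹) * (r * w1 * r⁻¹) * (r * w2 * r⁻¹) := by group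
        _ = w1 * w2 * w := by rw [← hw1d, ← hw2d, hw2d, hw1d, hrinv w]
        _ = w * w1 * w2 := by
            have c1 : Commute w w1 := comS w w1 hw1 hw2 hw11 hw12
            have c2 : Commute w w2 := comS w w2 hw1 hw2 hw21 hw22
            have := (c1.mul_right c2).eq
            rw [← this]; group
    calc r * (w * w1 * w2) = (r * (w * w1 * w2) * r⁻¹) * r := by group
      _ = _ := by rw [e1]
  · intro hv
    apply nw2
    have e : w2 = (w * w1)⁻¹ * (w * w1 * w2) := by group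
    rw [e]
    exact inV_mul A (inV_inv A hww1) hv

end Cfsg.Agent.SporadicB.J1Local.Tri
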