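import Mathlib
import Cfsg.Agent.SporadicB.J1Local.Tri

/-!
There are no links of type `(3,3)` or `(5,5)`, and not both `(3,5)` and `(5,3)`.
-/

set_option autoImplicit false

namespace Cfsg.Agent.SporadicB.J1Local.NoPP

open Cfsg.Agent.SporRec.J1.Defs Cfsg.Agent.SporadicB.J1Local.Defs
open Cfsg.Agent.SporadicB.J1Local.Cent Cfsg.Agent.SporadicB.J1Local.Cent2
open Cfsg.Agent.SporadicB.J1Local.Kstr Cfsg.Agent.SporadicB.J1Local.OddK
open Cfsg.Agent.SporadicB.J1Local.Links Cfsg.Agent.SporadicB.J1Local.Four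
open Cfsg.Agent.SporadicB.J1Local.Excl Cfsg.Agent.SporadicB.J1Local.Tri

variable {G : Type*} [Group G]

theorem TD_rD {t s x r x1 x2 v : G} (T : TriData t s x r x1 x2 v) :
    r * (x * x1 * x2) = (x * x1 * x2) * r := by
  have e1 : r * (x * x1 * x2) * r⁻¹ = x * x1 * x2 := by
    calc r * (x * x1 * x2) * r⁻¹ = (r * x * r⁻¹) * (r * x1 * r⁻¹) * (r * x2 * r⁻¹) := by group
      _ = x1 * x2 * x := by rw [T.rx, T.rx1, T.rx2]
      _ = x * x1 * x2 := by
          have c1 : Commute x x1 := T.c01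
          have c2 : Commute x x2 := T.c02
          rw [← (c1.mul_right c2).eq]; group
  calc r * (x * x1 * x2) = (r * (x * x1 * x2) * r⁻¹) * r := by group
    _ = _ := by rw [e1]

theorem TD_txt {t s x r x1 x2 v : G} (T : TriData t s x r x1 x2 v) : t * x * t = x := by
  have htt := mul_self_of_orderOf_two T.A.t2
  rw [T.tx, mul_assoc, htt, mul_one]

theorem TD_tD {t s x r x1 x2 v : G} (T : TriData t s x r x1 x2 v) :
    t * (x * x1 * x2) * t = x * x1⁻¹ * x2⁻¹ := by
  have htt := mul_self_of_orderOf_two T.A.t2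
  rw [conj_mul' htt, conj_mul' htt, TD_txt T, T.t1, T.t2]

theorem TD_D_ne {t s x r x1 x2 v : G} (T : TriData t s x r x1 x2 v)
    (hx : orderOf x = 3 ∨ orderOf x = 5) : x * x1 * x2 ≠ 1 := by
  intro e
  have htt := mul_self_of_orderOf_two T.A.t2
  have e1 := TD_tD T
  rw [e, mul_one, htt] at e1
  have e2 : x = (x1 * x2)⁻¹ := by
    calc x = (x * x1 * x2) * (x1 * x2)⁻¹ := by group
      _ = _ := by rw [e, one_mul]
  have e3 : x = x2 * x1 := by
    calc x = (x * x1⁻¹ * x2⁻¹) * (x2 * x1) := by group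
      _ = _ := by rw [← e1, one_mul]
  have e4 : x * x = 1 := by
    calc x * x = (x1 * x2)⁻¹ * (x2 * x1) := by rw [← e2, ← e3]
      _ = (x1 * x2)⁻¹ * (x1 * x2) := by rw [T.c12]
      _ = 1 := by group
  exact ne_one_of35 hx (eq_one_of_odd_sq (odd_of35 hx) e4)

theorem TD_ord {t s x r x1 x2 v : G} (T : TriData t s x r x1 x2 v) :
    orderOf x1 = orderOf x ∧ orderOf x2 = orderOf x := by
  constructor
  · rw [← T.rx, orderOf_conj']
  · rw [← T.rx1, orderOf_conj', ← T.rx, orderOf_conj']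

theorem TD_D_pow {t s x r x1 x2 v : G} (T : TriData t s x r x1 x2 v) {p : ℕ}
    (hx : orderOf x = p) : (x * x1 * x2) ^ p = 1 := by
  obtain ⟨h1, h2⟩ := TD_ord T
  have c01 : Commute x x1 := T.c01
  have c02 : Commute x x2 := T.c02
  have c12 : Commute x1 x2 := T.c12
  rw [(c02.mul_left c12).mul_pow, c01.mul_pow]
  have e0 : x ^ p = 1 := by rw [← hx]; exact pow_orderOf_eq_one x
  have e1 : x1 ^ p = 1 := by rw [← hx, ← h1]; exact pow_orderOf_eq_one x1
  have e2 : x2 ^ p = 1 := by rw [← hx, ← h2]; exact pow_orderOf_eq_one x2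
  rw [e0, e1, e2]; simp

theorem TD_orderD {t s x r x1 x2 v : G} (T : TriData t s x r x1 x2 v)
    (hx : orderOf x = 3 ∨ orderOf x = 5) : orderOf (x * x1 * x2) = orderOf x := by
  have hne := TD_D_ne T hx
  rcases hx with hx | hx
  · rw [hx]
    have : Fact (Nat.Prime 3) := ⟨Nat.prime_three⟩
    exact orderOf_eq_prime (TD_D_pow T hx) hne
  · rw [hx]
    have : Fact (Nat.Prime 5) := ⟨Nat.prime_five⟩
    exact orderOf_eq_prime (TD_D_pow T hx) hne

theorem TD_v {t s x r x1 x2 v : G} (T : TriData t s x r x1 x2 v) : orderOf v = 2 := by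
  apply orderOf_eq_two T.v2
  intro e
  apply T.nv
  left; exact e

/-- If `v` inverts `x` we get a contradiction. -/
theorem TD_v_inv (h : Fus G) {t s x r x1 x2 v : G} (T : TriData t s x r x1 x2 v)
    (hx : orderOf x = 3 ∨ orderOf x = 5) (hv : v * x * v = x⁻¹) : False := by
  obtain ⟨φ, P⟩ := par h T.A.t2
  have htt := mul_self_of_orderOf_two T.A.t2
  have hss := mul_self_of_orderOf_two T.A.s2
  have cts : Commute t s := T.A.ts
  have ctv : Commute t v := T.tv
  have csv : Commute s v := T.sv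
  have ctsv : t * (s * v) = (s * v) * t := (cts.mul_right ctv).eq
  have cssv : s * (s * v) = (s * v) * s := ((Commute.refl s).mul_right csv).eq
  have hsq := cent_sq h T.A ctsv cssv
  have e1 : x * (s * v) = (s * v) * x := by
    have e2 : (s * v) * x * (v * s) = x := by
      calc (s * v) * x * (v * s) = s * (v * x * v) * s := by group
        _ = s * x⁻¹ * s := by rw [hv]
        _ = (s * x * s)⁻¹ := conj_inv' hss
        _ = x := by rw [T.sx, inv_inv]
    calc x * (s * v) = ((s * v) * x * (v * s)) * (s * v) := by rw [e2]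
      _ = (s * v) * x * v * (s * s) * v := by group
      _ = (s * v) * x * (v * v) := by rw [hss]; group
      _ = _ := by rw [T.v2, mul_one]
  obtain ⟨k, hk | hk⟩ := centr P T.tx hx ctsv e1
  · have e2 : x ^ k = 1 := by
      apply eq_one_of_odd_sq (odd_pow (odd_of35 hx) k)
      rw [← hk]; exact hsq
    apply T.nv
    right; right; left
    calc v = (s * s) * v := by rw [hss, one_mul]
      _ = s * (s * v) := by group
      _ = s := by rw [hk, e2, mul_one]
  · have ctx : Commute t (x ^ k) := (show Commute t x from T.tx).pow_right k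
    have e2 : x ^ k = 1 := by
      apply eq_one_of_odd_sq (odd_pow (odd_of35 hx) k)
      calc x ^ k * x ^ k = (t * t) * (x ^ k * x ^ k) := by rw [htt, one_mul]
        _ = t * (t * x ^ k) * x ^ k := by group
        _ = t * (x ^ k * t) * x ^ k := by rw [ctx.eq]
        _ = (t * x ^ k) * (t * x ^ k) := by group
        _ = 1 := by rw [← hk]; exact hsq
    apply T.nv
    right; right; right
    calc v = (s * s) * v := by rw [hss, one_mul]
      _ = s * (s * v) := by group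
      _ = s * t := by rw [hk, e2, mul_one]
      _ = t * s := T.A.ts.symm

theorem tri3 [Finite G] (h : Fus G) {t s x r x1 x2 v : G} (T : TriData t s x r x1 x2 v)
    (hx : orderOf x = 3) : False := by
  have hx' : orderOf x = 3 ∨ orderOf x = 5 := Or.inl hx
  have htt := mul_self_of_orderOf_two T.A.t2
  have hov := TD_v T
  have hvv := T.v2
  obtain ⟨ψ, Q⟩ := par h hov
  have hr3 : orderOf r = 3 ∨ orderOf r = 5 := Or.inl T.r3
  have hvr : v * r = r * v := T.rv.symm
  obtain ⟨s', hs2, hsF, hvs, hsr⟩ := exists_inverting Q hvr hr3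
  have C : Cfg0 v s' r := ⟨hov, hs2, hvs, hvr, hr3, hsr⟩
  obtain ⟨K, hK, -⟩ := exists_K h hov hvr hr3
  have H := hyp_of h C hK
  set D := x * x1 * x2 with hD
  have hrD : r * D = D * r := TD_rD T
  have hDo : orderOf D = 3 := by rw [hD, TD_orderD T hx', hx]
  have hDK : D ∈ K := (hK D).2 ⟨hrD.symm, by rw [hDo]; decide⟩
  obtain ⟨z, hz, ez⟩ := H.inv hDK
  have c01 : Commute x x1 := T.c01
  have c02 : Commute x x2 := T.c02
  have c12 : Commute x1 x2 := T.c12
  have hx3 : x * x * x = 1 := (three_of hx).1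
  have hr3' : r * r * r = 1 := (three_of T.r3).1
  have hD3 : D * D * D = 1 := (three_of hDo).1
  have hrr : r⁻¹ = r * r := by
    calc r⁻¹ = r⁻¹ * (r * r * r) := by rw [hr3', mul_one]
      _ = r * r := by group
  have hDD : D⁻¹ = D * D := by
    calc D⁻¹ = D⁻¹ * (D * D * D) := by rw [hD3, mul_one]
      _ = D * D := by group
  -- m⁻¹ r m = D r
  have hm1 : (x * x2⁻¹)⁻¹ * r * (x * x2⁻¹) = D * r := by
    have e1 : r * (x * x2⁻¹) * r⁻¹ = x1 * x⁻¹ := by
      calc r * (x * x2⁻¹) * r⁻¹ = (r * x * r⁻¹) * (r * x2 * r⁻¹)⁻¹ := by group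
        _ = x1 * x⁻¹ := by rw [T.rx, T.rx2]
    have e2 : x⁻¹ * x⁻¹ = x := by
      calc x⁻¹ * x⁻¹ = x⁻¹ * x⁻¹ * (x * x * x) := by rw [hx3, mul_one]
        _ = x := by group
    calc (x * x2⁻¹)⁻¹ * r * (x * x2⁻¹) = (x * x2⁻¹)⁻¹ * (r * (x * x2⁻¹) * r⁻¹) * r := by group
      _ = (x2 * x⁻¹) * (x1 * x⁻¹) * r := by rw [e1]; group
      _ = x2 * (x⁻¹ * x1) * x⁻¹ * r := by group
      _ = x2 * (x1 * x⁻¹) * x⁻¹ * r := by rw [(c01.inv_left).eq]
      _ = (x2 * x1) * (x⁻¹ * x⁻¹) * r := by group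
      _ = (x2 * x1) * x * r := by rw [e2]
      _ = D * r := by
          rw [hD, ← c12.eq]
          have := (c01.mul_right c02).eq
          rw [← this]; group
  have hmD : (x * x2⁻¹)⁻¹ * D * (x * x2⁻¹) = D := by
    have e1 : Commute (x * x2⁻¹) D := by
      have d1 : Commute x D := ((Commute.refl x).mul_right c01).mul_right c02
      have d2 : Commute x2 D := (c02.symm.mul_right c12.symm).mul_right (Commute.refl x2)
      exact d1.mul_left d2.inv_left
    calc (x * x2⁻¹)⁻¹ * D * (x * x2⁻¹) = (x * x2⁻¹)⁻¹ * (D * (x * x2⁻¹)) := by group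
      _ = (x * x2⁻¹)⁻¹ * ((x * x2⁻¹) * D) := by rw [e1.eq]
      _ = D := by group
  have hvrv : v * r * v = r := by rw [hvr, mul_assoc, hvv, mul_one]
  set w := v * (x * x2⁻¹)⁻¹ with hw
  have hwi : w⁻¹ = (x * x2⁻¹) * v := by
    rw [hw, mul_inv_rev, inv_inv, inv_eq_of_mul_eq_one_left hvv]
  have hwr : w * r * w⁻¹ = (D⁻¹ * z) * r := by
    calc w * r * w⁻¹ = v * ((x * x2⁻¹)⁻¹ * r * (x * x2⁻¹)) * v := by rw [hwi, hw]; group
      _ = v * (D * r) * v := by rw [hm1]
      _ = (v * D * v) * (v * r * v) := conj_mul' hvv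
      _ = _ := by rw [ez, hvrv]
  have hwD : w * D * w⁻¹ = D⁻¹ * z := by
    calc w * D * w⁻¹ = v * ((x * x2⁻¹)⁻¹ * D * (x * x2⁻¹)) * v := by rw [hwi, hw]; group
      _ = v * D * v := by rw [hmD]
      _ = _ := ez
  obtain ⟨i, hi⟩ := mem_zpowers_pow hz
  have hzc : z = 1 ∨ z = r ∨ z = r⁻¹ := by
    have e0 : r ^ 3 = 1 := by rw [pow3]; exact hr3'
    have e1 : z = r ^ (i % 3) := by
      rw [hi]; exact pow_eq_pow_mod i e0
    have e2 : i % 3 < 3 := Nat.mod_lt _ (by norm_num)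
    rw [e1]
    interval_cases (i % 3)
    · left; simp
    · right; left; simp
    · right; right; rw [hrr, pow_two]
  have crD : Commute r D := hrD
  rcases hzc with hz1 | hz1 | hz1
  · -- z = 1
    rw [hz1, mul_one] at ez
    apply TD_v_inv h T hx'
    have ctv : t * v = v * t := T.tv
    have tvc : ∀ a : G, t * (v * a * v) * t = v * (t * a * t) * v := by
      intro a
      calc t * (v * a * v) * t = (t * v) * a * (v * t) := by group
        _ = (v * t) * a * (t * v) := by rw [ctv]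
        _ = _ := by group
    have f0 : t * (v * x * v) * t = v * x * v := by rw [tvc, TD_txt T]
    have f1 : t * (v * x1 * v) * t = (v * x1 * v)⁻¹ := by rw [tvc, T.t1, conj_inv' hvv]
    have f2 : t * (v * x2 * v) * t = (v * x2 * v)⁻¹ := by rw [tvc, T.t2, conj_inv' hvv]
    have g0 : v * D * v = (v * x * v) * (v * x1 * v) * (v * x2 * v) := by
      rw [hD, conj_mul' hvv, conj_mul' hvv]
    have g1 : (v * x * v) * (v * x1 * v) * (v * x2 * v) = D⁻¹ := by rw [← g0, ez]
    have g2 : (v * x * v) * (v * x1 * v)⁻¹ * (v * x2 * v)⁻¹ = (x * x1⁻¹ * x2⁻¹)⁻¹ := by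
      have e1 : t * (v * x * v * (v * x1 * v) * (v * x2 * v)) * t = t * D⁻¹ * t := by rw [g1]
      rw [conj_mul' htt, conj_mul' htt, f0, f1, f2, conj_inv' htt, hD, TD_tD T] at e1
      exact e1
    have cv : ∀ a b : G, Commute a b → Commute (v * a * v) (v * b * v) := by
      intro a b hab
      show v * a * v * (v * b * v) = v * b * v * (v * a * v)
      rw [← conj_mul' hvv, ← conj_mul' hvv, hab.eq]
    have d01 := cv _ _ c01
    have d02 := cv _ _ c02
    have d12 := cv _ _ c12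
    set y0 := v * x * v with hy0
    set y1 := v * x1 * v
    set y2 := v * x2 * v
    have g3 : y0 * y0 = x⁻¹ * x⁻¹ := by
      have e1 : (y0 * y1 * y2) * (y0 * y1⁻¹ * y2⁻¹) = y0 * y0 := by
        calc (y0 * y1 * y2) * (y0 * y1⁻¹ * y2⁻¹) = y0 * (y1 * y2 * y0) * (y1⁻¹ * y2⁻¹) := by group
          _ = y0 * (y0 * (y1 * y2)) * (y1⁻¹ * y2⁻¹) := by rw [← (d01.mul_right d02).eq]
          _ = y0 * y0 * (y1 * y2) * (y2 * y1)⁻¹ := by group
          _ = y0 * y0 * (y2 * y1) * (y2 * y1)⁻¹ := by rw [d12.eq]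
          _ = y0 * y0 := by group
      have e2 : D⁻¹ * (x * x1⁻¹ * x2⁻¹)⁻¹ = x⁻¹ * x⁻¹ := by
        have e3 : (x * x1⁻¹ * x2⁻¹) * D = x * x := by
          calc (x * x1⁻¹ * x2⁻¹) * D = x * (x2 * x1)⁻¹ * x * (x1 * x2) := by rw [hD]; group
            _ = x * ((x1 * x2)⁻¹ * x) * (x1 * x2) := by rw [c12.eq]; group
            _ = x * (x * (x1 * x2)⁻¹) * (x1 * x2) := by
                rw [((c01.mul_right c02).inv_right).eq]
            _ = x * x := by group
        calc D⁻¹ * (x * x1⁻¹ * x2⁻¹)⁻¹ = ((x * x1⁻¹ * x2⁻¹) * D)⁻¹ := by group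
          _ = _ := by rw [e3]; group
      rw [← e1, g1, g2, e2]
    have hy3 : y0 * y0 * y0 = 1 := by
      rw [hy0, ← conj_mul' hvv, ← conj_mul' hvv, hx3, mul_one, hvv]
    calc y0 = (y0 * y0 * y0) * y0 := by rw [hy3, one_mul]
      _ = (y0 * y0) * (y0 * y0) := by group
      _ = (x⁻¹ * x⁻¹) * (x⁻¹ * x⁻¹) := by rw [g3]
      _ = (x * x * x)⁻¹ * x⁻¹ := by group
      _ = x⁻¹ := by rw [hx3]; group
  · -- z = r
    rw [hz1] at hwr hwD
    have e1 : w ^ 2 * r * (w ^ 2)⁻¹ = D⁻¹ := by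
      calc w ^ 2 * r * (w ^ 2)⁻¹ = w * (w * r * w⁻¹) * w⁻¹ := by rw [pow_two]; group
        _ = w * (D⁻¹ * r * r) * w⁻¹ := by rw [hwr]
        _ = (w * D * w⁻¹)⁻¹ * (w * r * w⁻¹) * (w * r * w⁻¹) := by group
        _ = (D⁻¹ * r)⁻¹ * (D⁻¹ * r * r) * (D⁻¹ * r * r) := by rw [hwr, hwD]
        _ = r * (D⁻¹ * r * r) := by group
        _ = D⁻¹ * (r * r * r) := by
            have : r * D⁻¹ = D⁻¹ * r := (crD.inv_right).eq
            calc r * (D⁻¹ * r * r) = (r * D⁻¹) * r * r := by group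
              _ = _ := by rw [this]; group
        _ = D⁻¹ := by rw [hr3', mul_one]
    have e2 : w ^ 2 * D * (w ^ 2)⁻¹ = r := by
      calc w ^ 2 * D * (w ^ 2)⁻¹ = w * (w * D * w⁻¹) * w⁻¹ := by rw [pow_two]; group
        _ = w * (D⁻¹ * r) * w⁻¹ := by rw [hwD]
        _ = (w * D * w⁻¹)⁻¹ * (w * r * w⁻¹) := by group
        _ = (D⁻¹ * r)⁻¹ * (D⁻¹ * r * r) := by rw [hwr, hwD]
        _ = r := by group
    exact quad h e1 e2 hr3
  · -- z = r⁻¹
    rw [hz1] at hwr hwD
    have hwr' : w * r * w⁻¹ = D⁻¹ := by rw [hwr]; group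
    have e1 : w ^ 2 * r * (w ^ 2)⁻¹ = r * D := by
      calc w ^ 2 * r * (w ^ 2)⁻¹ = w * (w * r * w⁻¹) * w⁻¹ := by rw [pow_two]; group
        _ = (w * D * w⁻¹)⁻¹ := by rw [hwr']; group
        _ = r * D := by rw [hwD]; group
    have e2 : w ^ 2 * D * (w ^ 2)⁻¹ = r * D * D := by
      calc w ^ 2 * D * (w ^ 2)⁻¹ = w * (w * D * w⁻¹) * w⁻¹ := by rw [pow_two]; group
        _ = w * (D⁻¹ * r⁻¹) * w⁻¹ := by rw [hwD]
        _ = (w * D * w⁻¹)⁻¹ * (w * r * w⁻¹)⁻¹ := by group
        _ = (D⁻¹ * r⁻¹)⁻¹ * (D⁻¹)⁻¹ := by rw [hwr', hwD]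
        _ = r * D * D := by group
    apply quad h (w := w ^ 2) (x := r) (c := (r * D)⁻¹) _ _ hr3
    · rw [e1, inv_inv]
    · calc w ^ 2 * (r * D)⁻¹ * (w ^ 2)⁻¹
          = ((w ^ 2 * r * (w ^ 2)⁻¹) * (w ^ 2 * D * (w ^ 2)⁻¹))⁻¹ := by group
        _ = ((r * D) * (r * D * D))⁻¹ := by rw [e1, e2]
        _ = (r * r * (D * D * D))⁻¹ := by
            congr 1
            calc (r * D) * (r * D * D) = r * (D * r) * D * D := by group
              _ = r * (r * D) * D * D := by rw [hrD]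
              _ = _ := by group
        _ = r := by rw [hD3, mul_one, ← hrr, inv_inv]

theorem link_d [Finite G] (h : Fus G) {p : ℕ} (hp : LL G p p) :
    ∃ t s x c d : G, Link t s x c ∧ Link (t * s) t d x ∧ orderOf x = p ∧ orderOf c = p ∧
      orderOf d = p := by
  obtain ⟨t, s, x, c, L, e1, e2⟩ := hp
  have A := arr_of L.cfg
  have A2 := A.prev h
  have htt := mul_self_of_orderOf_two A.t2
  have e3 : (t * s) * t = s := by
    calc (t * s) * t = t * (s * t) := by group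
      _ = t * (t * s) := by rw [A.ts]
      _ = (t * t) * s := by group
      _ = s := by rw [htt, one_mul]
  have C : Cfg t ((t * s) * t) x := by rw [e3]; exact L.cfg
  obtain ⟨g, -, -, -, L'⟩ := transport_bwd h L A2 C (by rw [e1, e2])
  exact ⟨t, s, x, c, g * x * g⁻¹, L, L', e1, e2, by rw [orderOf_conj', e1]⟩

theorem no33 [Finite G] (h : Fus G) : ¬ LL G 3 3 := by
  intro h33
  obtain ⟨t, s, x, c, d, L, L', e1, e2, e3⟩ := link_d h h33
  by_cases hcd : c * d = d * c
  · obtain ⟨r, x1, x2, v, T⟩ := tri_data h L L' (by rw [e1, e2]) hcd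
    exact tri3 h T e1
  · exact hex h L L' (by rw [e1, e2]) hcd

theorem tri5 [Finite G] (h : Fus G) (h55 : LL G 5 5) {t s x r x1 x2 v : G}
    (T : TriData t s x r x1 x2 v) (hx : orderOf x = 5) : False := by
  have hx' : orderOf x = 3 ∨ orderOf x = 5 := Or.inr hx
  have hov := TD_v T
  obtain ⟨ψ, Q⟩ := par h hov
  have hr3 : orderOf r = 3 ∨ orderOf r = 5 := Or.inl T.r3
  have hvr : v * r = r * v := T.rv.symm
  obtain ⟨s', hs2, hsF, hvs, hsr⟩ := exists_inverting Q hvr hr3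
  have C : Cfg v s' r := ⟨hov, hs2, hvs, hsF, hvr, hr3, hsr⟩
  obtain ⟨K, hK, -⟩ := exists_K h hov hvr hr3
  obtain ⟨c, hcK, d, hdK, hc, hd, hsh⟩ := K_shape h C hK
  have hc1 : c = 1 := by
    rcases hc with h1 | L
    · exact h1
    · exfalso
      rcases L.c35 with h3 | h5
      · exact no33 h ⟨_, _, _, _, L, T.r3, h3⟩
      · have : LL G 3 5 := ⟨_, _, _, _, L, T.r3, h5⟩
        have := LL_inj h this h55
        omega
  have hd1 : d = 1 := by
    rcases hd with h1 | L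
    · exact h1
    · exfalso
      rcases L.cfg.x35 with h3 | h5
      · exact no33 h ⟨_, _, _, _, L, h3, T.r3⟩
      · have : LL G 5 3 := ⟨_, _, _, _, L, h5, T.r3⟩
        have := LL_fun h this h55
        omega
  have hDo : orderOf (x * x1 * x2) = 5 := by rw [TD_orderD T hx', hx]
  have hDK : x * x1 * x2 ∈ K := (hK _).2 ⟨(TD_rD T).symm, by rw [hDo]; decide⟩
  obtain ⟨i, j, l, e⟩ := hsh _ hDK
  rw [hc1, hd1, one_pow, one_pow, one_mul, one_mul] at e
  have h1 : orderOf (x * x1 * x2) ∣ 3 := by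
    rw [e, ← T.r3]; exact orderOf_pow_dvd l
  rw [hDo] at h1
  revert h1; decide

theorem no55 [Finite G] (h : Fus G) : ¬ LL G 5 5 := by
  intro h55
  obtain ⟨t, s, x, c, d, L, L', e1, e2, e3⟩ := link_d h h55
  by_cases hcd : c * d = d * c
  · obtain ⟨r, x1, x2, v, T⟩ := tri_data h L L' (by rw [e1, e2]) hcd
    exact tri5 h h55 T e1
  · exact hex h L L' (by rw [e1, e2]) hcd

end Cfsg.Agent.SporadicB.J1Local.NoPP
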