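import Mathlib
import Cfsg.Agent.SporadicB.J1Local.Basic

/-!
Counting inside `Z2 × A5` and inside `C_G(t) ≅ Z2 × A5`.
-/

set_option autoImplicit false

namespace Cfsg.Agent.SporadicB.J1Local.Count0

open Cfsg.Agent.SporRec.J1.Defs Cfsg.Agent.SporadicB.J1Local.Defs Cfsg.Agent.SporadicB.J1Local.Basic

/-! ### `A5` -/

theorem A5_card_invol : (Finset.univ.filter fun g : alternatingGroup (Fin 5) => g * g = 1).card = 16 := by
  decide +kernel

theorem A5_card_three :
    (Finset.univ.filter fun g : alternatingGroup (Fin 5) => g * g * g = 1 ∧ g ≠ 1).card = 20 := by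
  decide +kernel

theorem A5_card_five :
    (Finset.univ.filter fun g : alternatingGroup (Fin 5) => g * g * g * g * g = 1 ∧ g ≠ 1).card = 24 := by
  decide +kernel

theorem A5_cent_two : ∀ g : alternatingGroup (Fin 5), g * g = 1 → g ≠ 1 →
    (Finset.univ.filter fun h : alternatingGroup (Fin 5) => h * g = g * h).card = 4 := by
  decide +kernel

theorem A5_cent_three : ∀ g : alternatingGroup (Fin 5), g * g * g = 1 → g ≠ 1 →
    (Finset.univ.filter fun h : alternatingGroup (Fin 5) => h * g = g * h).card = 3 := by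
  decide +kernel

theorem A5_cent_five : ∀ g : alternatingGroup (Fin 5), g * g * g * g * g = 1 → g ≠ 1 →
    (Finset.univ.filter fun h : alternatingGroup (Fin 5) => h * g = g * h).card = 5 := by
  decide +kernel

theorem A5_orders : ∀ g : alternatingGroup (Fin 5),
    g * g = 1 ∨ g * g * g = 1 ∨ g * g * g * g * g = 1 := by
  decide +kernel

/-- elements commuting with an involution of `A5` are involutions. -/
theorem A5_cent_two_sq : ∀ g : alternatingGroup (Fin 5), g * g = 1 → g ≠ 1 →
    ∀ h : alternatingGroup (Fin 5), h * g = g * h → h * h = 1 := by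
  decide +kernel

/-! ### `ZA` -/

theorem z2_sq (z : Multiplicative (ZMod 2)) : z * z = 1 := by
  revert z; decide

/-- a predicate on `ZA` depending only on the second component. -/
theorem card_snd (p : alternatingGroup (Fin 5) → Prop) [DecidablePred p] :
    Nat.card {x : ZA // p x.2} = 2 * (Finset.univ.filter p).card := by
  have e : {x : ZA // p x.2} ≃ Multiplicative (ZMod 2) × {g // p g} :=
    { toFun := fun x => (x.1.1, ⟨x.1.2, x.2⟩)
      invFun := fun y => ⟨(y.1, y.2.1), y.2.2⟩
      left_inv := fun x => rfl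
      right_inv := fun y => rfl }
  rw [Nat.card_congr e, Nat.card_prod, Nat.card_eq_fintype_card, Nat.card_eq_fintype_card, Fintype.card_subtype]
  rfl

/-- a predicate on `ZA` forcing the first component to be trivial. -/
theorem card_snd' (p : alternatingGroup (Fin 5) → Prop) [DecidablePred p] :
    Nat.card {x : ZA // x.1 = 1 ∧ p x.2} = (Finset.univ.filter p).card := by
  have e : {x : ZA // x.1 = 1 ∧ p x.2} ≃ {g // p g} :=
    { toFun := fun x => ⟨x.1.2, x.2.2⟩
      invFun := fun y => ⟨(1, y.1), rfl, y.2⟩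
      left_inv := fun x => Subtype.ext (Prod.ext x.2.1.symm rfl)
      right_inv := fun y => rfl }
  rw [Nat.card_congr e, Nat.card_eq_fintype_card, Fintype.card_subtype]

theorem ZA_sq_iff (x : ZA) : x * x = 1 ↔ x.2 * x.2 = 1 := by
  constructor
  · intro h
    exact congrArg Prod.snd h
  · intro h
    exact Prod.ext (z2_sq _) h

theorem ZA_comm_iff (x y : ZA) : x * y = y * x ↔ x.2 * y.2 = y.2 * x.2 := by
  constructor
  · intro h
    exact congrArg Prod.snd h
  · intro h
    exact Prod.ext (mul_comm _ _) h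

/-- number of solutions of `x² = 1` in `Z2 × A5` is 32. -/
theorem ZA_card_sq : Nat.card {x : ZA // x * x = 1} = 32 := by
  have : Nat.card {x : ZA // x * x = 1} = Nat.card {x : ZA // (fun g => g * g = 1) x.2} := by
    apply Nat.card_congr
    exact Equiv.subtypeEquivRight (fun x => ZA_sq_iff x)
  rw [this, card_snd (fun g : alternatingGroup (Fin 5) => g * g = 1), A5_card_invol]

theorem ZA_orderOf_two (x : ZA) : orderOf x = 2 ↔ x * x = 1 ∧ x ≠ 1 := by
  rw [orderOf_eq_prime_iff, pow_two]

theorem ZA_card_invol : Nat.card {x : ZA // orderOf x = 2} = 31 := by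
  classical
  have h1 := ZA_card_sq
  have h2 : Nat.card {x : ZA // x * x = 1} = Nat.card {x : ZA // orderOf x = 2} + 1 := by
    rw [Nat.card_eq_fintype_card, Nat.card_eq_fintype_card, Fintype.card_subtype, Fintype.card_subtype]
    have : (Finset.univ.filter fun x : ZA => x * x = 1) =
        insert 1 (Finset.univ.filter fun x : ZA => orderOf x = 2) := by
      ext x
      simp only [Finset.mem_filter, Finset.mem_univ, true_and, Finset.mem_insert, ZA_orderOf_two]
      constructor
      · intro h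
        by_cases hx : x = 1
        · left; exact hx
        · right; exact ⟨h, hx⟩
      · rintro (rfl | h)
        · exact one_mul 1
        · exact h.1
    rw [this, Finset.card_insert_of_notMem]
    simp
  omega

theorem ZA_snd_of_orderOf_three {x : ZA} (hx : orderOf x = 3) : x.1 = 1 ∧ x.2 * x.2 * x.2 = 1 ∧ x.2 ≠ 1 := by
  have h1 : x ^ 3 = 1 := hx ▸ pow_orderOf_eq_one x
  have h2 : x.1 * x.1 * x.1 = 1 := by
    have := congrArg Prod.fst h1
    rw [pow_succ, pow_two] at this
    exact this
  have h3 : x.2 * x.2 * x.2 = 1 := by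
    have := congrArg Prod.snd h1
    rw [pow_succ, pow_two] at this
    exact this
  rw [z2_sq, one_mul] at h2
  refine ⟨h2, h3, ?_⟩
  intro h4
  have : x = 1 := Prod.ext h2 h4
  rw [this, orderOf_one] at hx
  omega

theorem ZA_snd_of_orderOf_five {x : ZA} (hx : orderOf x = 5) :
    x.1 = 1 ∧ x.2 * x.2 * x.2 * x.2 * x.2 = 1 ∧ x.2 ≠ 1 := by
  have h1 : x ^ 5 = 1 := by
    have := pow_orderOf_eq_one x
    rw [hx] at this
    exact this
  have h2 : x.1 * x.1 * x.1 * x.1 * x.1 = 1 := by
    have := congrArg Prod.fst h1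
    rw [pow_succ, pow_succ, pow_succ, pow_two] at this
    exact this
  have h3 : x.2 * x.2 * x.2 * x.2 * x.2 = 1 := by
    have := congrArg Prod.snd h1
    rw [pow_succ, pow_succ, pow_succ, pow_two] at this
    exact this
  rw [z2_sq, one_mul, z2_sq, one_mul] at h2
  refine ⟨h2, h3, ?_⟩
  intro h4
  have : x = 1 := Prod.ext h2 h4
  rw [this, orderOf_one] at hx
  omega

/-- the centraliser in `ZA` of an element of order 3 has order 6. -/
theorem ZA_cent_three {x : ZA} (hx : orderOf x = 3) : Nat.card {y : ZA // y * x = x * y} = 6 := by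
  obtain ⟨h1, h2, h3⟩ := ZA_snd_of_orderOf_three hx
  have : Nat.card {y : ZA // y * x = x * y} = Nat.card {y : ZA // (fun h => h * x.2 = x.2 * h) y.2} := by
    apply Nat.card_congr
    exact Equiv.subtypeEquivRight (fun y => ZA_comm_iff y x)
  rw [this, card_snd (fun h : alternatingGroup (Fin 5) => h * x.2 = x.2 * h), A5_cent_three _ h2 h3]

/-- the centraliser in `ZA` of an element of order 5 has order 10. -/
theorem ZA_cent_five {x : ZA} (hx : orderOf x = 5) : Nat.card {y : ZA // y * x = x * y} = 10 := by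
  obtain ⟨h1, h2, h3⟩ := ZA_snd_of_orderOf_five hx
  have : Nat.card {y : ZA // y * x = x * y} = Nat.card {y : ZA // (fun h => h * x.2 = x.2 * h) y.2} := by
    apply Nat.card_congr
    exact Equiv.subtypeEquivRight (fun y => ZA_comm_iff y x)
  rw [this, card_snd (fun h : alternatingGroup (Fin 5) => h * x.2 = x.2 * h), A5_cent_five _ h2 h3]

/-- the centraliser in `ZA` of a noncentral involution has order 8. -/
theorem ZA_cent_two {x : ZA} (hx : x * x = 1) (hx2 : x.2 ≠ 1) : Nat.card {y : ZA // y * x = x * y} = 8 := by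
  have : Nat.card {y : ZA // y * x = x * y} = Nat.card {y : ZA // (fun h => h * x.2 = x.2 * h) y.2} := by
    apply Nat.card_congr
    exact Equiv.subtypeEquivRight (fun y => ZA_comm_iff y x)
  rw [this, card_snd (fun h : alternatingGroup (Fin 5) => h * x.2 = x.2 * h),
    A5_cent_two _ ((ZA_sq_iff x).1 hx) hx2]

theorem ZA_cent_two_sq {x : ZA} (hx : x * x = 1) (hx2 : x.2 ≠ 1) (y : ZA) (hy : y * x = x * y) : y * y = 1 :=
  (ZA_sq_iff y).2 (A5_cent_two_sq _ ((ZA_sq_iff x).1 hx) hx2 _ ((ZA_comm_iff y x).1 hy))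

theorem ZA_card_three : Nat.card {x : ZA // orderOf x = 3} = 20 := by
  rw [← A5_card_three, ← card_snd' (fun g : alternatingGroup (Fin 5) => g * g * g = 1 ∧ g ≠ 1)]
  apply Nat.card_congr
  refine Equiv.subtypeEquivRight (fun x => ⟨fun h => ZA_snd_of_orderOf_three h, ?_⟩)
  rintro ⟨h1, h2, h3⟩
  apply orderOf_eq_prime
  · ext1
    · show x.1 ^ 3 = 1
      rw [h1, one_pow]
    · show x.2 ^ 3 = 1
      rw [pow_succ, pow_two, h2]
  · rintro rfl
    exact h3 rfl

theorem ZA_card_five : Nat.card {x : ZA // orderOf x = 5} = 24 := by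
  have : Fact (Nat.Prime 5) := ⟨by norm_num⟩
  rw [← A5_card_five, ← card_snd' (fun g : alternatingGroup (Fin 5) => g * g * g * g * g = 1 ∧ g ≠ 1)]
  apply Nat.card_congr
  refine Equiv.subtypeEquivRight (fun x => ⟨fun h => ZA_snd_of_orderOf_five h, ?_⟩)
  rintro ⟨h1, h2, h3⟩
  apply orderOf_eq_prime
  · ext1
    · show x.1 ^ 5 = 1
      rw [h1, one_pow]
    · show x.2 ^ 5 = 1
      rw [pow_succ, pow_succ, pow_succ, pow_two, h2]
  · rintro rfl
    exact h3 rfl

/-- Orders of elements of `ZA`. -/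
theorem ZA_orderOf (x : ZA) : orderOf x ∈ ({1, 2, 3, 5, 6, 10} : Finset ℕ) := by
  rcases A5_orders x.2 with h | h | h
  · have h1 : x ^ 2 = 1 := by rw [pow_two]; exact (ZA_sq_iff x).2 h
    have h2 := orderOf_dvd_of_pow_eq_one h1
    have h3 : orderOf x ∈ Nat.divisors 2 := Nat.mem_divisors.2 ⟨h2, by norm_num⟩
    have h4 : Nat.divisors 2 ⊆ ({1, 2, 3, 5, 6, 10} : Finset ℕ) := by decide
    exact h4 h3
  · have h1 : x ^ 6 = 1 := by
      ext1
      · show x.1 ^ 6 = 1
        rw [show 6 = 2 * 3 from rfl, pow_mul, pow_two, z2_sq, one_pow]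
      · show x.2 ^ 6 = 1
        have : x.2 ^ 3 = 1 := by rw [pow_succ, pow_two, h]
        rw [show 6 = 3 * 2 from rfl, pow_mul, this, one_pow]
    have h2 := orderOf_dvd_of_pow_eq_one h1
    have h3 : orderOf x ∈ Nat.divisors 6 := Nat.mem_divisors.2 ⟨h2, by norm_num⟩
    have h4 : Nat.divisors 6 ⊆ ({1, 2, 3, 5, 6, 10} : Finset ℕ) := by decide
    exact h4 h3
  · have h1 : x ^ 10 = 1 := by
      ext1
      · show x.1 ^ 10 = 1
        rw [show 10 = 2 * 5 from rfl, pow_mul, pow_two, z2_sq, one_pow]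
      · show x.2 ^ 10 = 1
        have : x.2 ^ 5 = 1 := by rw [pow_succ, pow_succ, pow_succ, pow_two, h]
        rw [show 10 = 5 * 2 from rfl, pow_mul, this, one_pow]
    have h2 := orderOf_dvd_of_pow_eq_one h1
    have h3 : orderOf x ∈ Nat.divisors 10 := Nat.mem_divisors.2 ⟨h2, by norm_num⟩
    have h4 : Nat.divisors 10 ⊆ ({1, 2, 3, 5, 6, 10} : Finset ℕ) := by decide
    exact h4 h3

section Emb

variable {G : Type*} [Group G] {t : G} {φ : ZA →* G}

theorem Emb.orderOf_map (h : Emb t φ) (x : ZA) : orderOf (φ x) = orderOf x :=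
  orderOf_injective φ h.inj x

/-- Counting elements of `C(t)` with a property. -/
theorem Emb.card_subtype (h : Emb t φ) (p : G → Prop) :
    Nat.card {g : G // g * t = t * g ∧ p g} = Nat.card {x : ZA // p (φ x)} := by
  symm
  refine Nat.card_eq_of_bijective (fun x => ⟨φ x.1, h.comm x.1, x.2⟩) ⟨?_, ?_⟩
  · intro x y hxy
    exact Subtype.ext (h.inj (congrArg Subtype.val hxy))
  · rintro ⟨g, hg, hp⟩
    obtain ⟨x, rfl⟩ := h.exists_of_comm hg
    exact ⟨⟨x, hp⟩, rfl⟩

/-- `C(t)` has 31 involutions. -/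
theorem Emb.card_invol (h : Emb t φ) : Nat.card {g : G // g * t = t * g ∧ orderOf g = 2} = 31 := by
  rw [card_subtype h (fun g => orderOf g = 2), ← ZA_card_invol]
  apply Nat.card_congr
  exact Equiv.subtypeEquivRight (fun x => by rw [orderOf_map h])

/-- `C(t)` has 20 elements of order 3. -/
theorem Emb.card_three (h : Emb t φ) : Nat.card {g : G // g * t = t * g ∧ orderOf g = 3} = 20 := by
  rw [card_subtype h (fun g => orderOf g = 3), ← ZA_card_three]
  apply Nat.card_congr
  exact Equiv.subtypeEquivRight (fun x => by rw [orderOf_map h])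

/-- `C(t)` has 24 elements of order 5. -/
theorem Emb.card_five (h : Emb t φ) : Nat.card {g : G // g * t = t * g ∧ orderOf g = 5} = 24 := by
  rw [card_subtype h (fun g => orderOf g = 5), ← ZA_card_five]
  apply Nat.card_congr
  exact Equiv.subtypeEquivRight (fun x => by rw [orderOf_map h])

/-- the centraliser in `C(t)` of an element of order 3 has order 6. -/
theorem Emb.card_cent_three (h : Emb t φ) {x : G} (hx : x * t = t * x) (h3 : orderOf x = 3) :
    Nat.card {g : G // g * t = t * g ∧ g * x = x * g} = 6 := by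
  obtain ⟨y, rfl⟩ := h.exists_of_comm hx
  rw [orderOf_map h] at h3
  rw [card_subtype h (fun g => g * φ y = φ y * g), ← ZA_cent_three h3]
  apply Nat.card_congr
  refine Equiv.subtypeEquivRight (fun x => ?_)
  rw [← map_mul, ← map_mul]
  exact h.inj.eq_iff

/-- the centraliser in `C(t)` of an element of order 5 has order 10. -/
theorem Emb.card_cent_five (h : Emb t φ) {x : G} (hx : x * t = t * x) (h5 : orderOf x = 5) :
    Nat.card {g : G // g * t = t * g ∧ g * x = x * g} = 10 := by
  obtain ⟨y, rfl⟩ := h.exists_of_comm hx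
  rw [orderOf_map h] at h5
  rw [card_subtype h (fun g => g * φ y = φ y * g), ← ZA_cent_five h5]
  apply Nat.card_congr
  refine Equiv.subtypeEquivRight (fun x => ?_)
  rw [← map_mul, ← map_mul]
  exact h.inj.eq_iff

theorem Emb.snd_ne_one (h : Emb t φ) {y : ZA} (h1 : φ y ≠ 1) (h2 : φ y ≠ t) : y.2 ≠ 1 := by
  intro hy
  rcases z2_cases y.1 with hh | hh
  · apply h1
    rw [show y = 1 from Prod.ext hh hy, map_one]
  · apply h2
    rw [show y = z0 from Prod.ext hh hy, h.map_z]

/-- for an involution `x ≠ t` of `C(t)`, the group `C(t) ∩ C(x)` has order 8. -/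
theorem Emb.card_cent_two (h : Emb t φ) {x : G} (hx : x * t = t * x) (h2 : orderOf x = 2) (hne : x ≠ t) :
    Nat.card {g : G // g * t = t * g ∧ g * x = x * g} = 8 := by
  obtain ⟨y, rfl⟩ := h.exists_of_comm hx
  have h1 : φ y ≠ 1 := by
    intro hh
    rw [hh, orderOf_one] at h2
    omega
  have hy := snd_ne_one h h1 hne
  rw [orderOf_map h, ZA_orderOf_two] at h2
  rw [card_subtype h (fun g => g * φ y = φ y * g), ← ZA_cent_two h2.1 hy]
  apply Nat.card_congr
  refine Equiv.subtypeEquivRight (fun x => ?_)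
  rw [← map_mul, ← map_mul]
  exact h.inj.eq_iff

/-- for an involution `x ≠ t` of `C(t)`, the group `C(t) ∩ C(x)` is elementary abelian. -/
theorem Emb.cent_two_sq (h : Emb t φ) {x : G} (hx : x * t = t * x) (h2 : orderOf x = 2) (hne : x ≠ t)
    {g : G} (hg : g * t = t * g) (hgx : g * x = x * g) : g * g = 1 := by
  obtain ⟨y, rfl⟩ := h.exists_of_comm hx
  obtain ⟨w, rfl⟩ := h.exists_of_comm hg
  have h1 : φ y ≠ 1 := by
    intro hh
    rw [hh, orderOf_one] at h2
    omega
  have hy := snd_ne_one h h1 hne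
  rw [orderOf_map h, ZA_orderOf_two] at h2
  rw [← map_mul, ← map_mul] at hgx
  rw [← map_mul, ZA_cent_two_sq h2.1 hy w (h.inj hgx), map_one]

/-- Orders of elements of `C(t)`. -/
theorem Emb.orderOf_mem (h : Emb t φ) {g : G} (hg : g * t = t * g) :
    orderOf g ∈ ({1, 2, 3, 5, 6, 10} : Finset ℕ) := by
  obtain ⟨w, rfl⟩ := h.exists_of_comm hg
  rw [orderOf_map h]
  exact ZA_orderOf w

/-- `F t ≃ A5`. -/
theorem Emb.F_equiv (h : Emb t φ) : Nonempty (F t ≃* alternatingGroup (Fin 5)) := by
  rw [h.F_eq]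
  refine ⟨((Subgroup.equivMapOfInjective _ φ h.inj).symm.trans
    (Subgroup.prodEquiv _ _)).trans ?_⟩
  refine MulEquiv.trans ?_ (MulEquiv.prodUnique (M := alternatingGroup (Fin 5)) (N := (⊥ : Subgroup (Multiplicative (ZMod 2)))))
  exact MulEquiv.trans MulEquiv.prodComm (MulEquiv.prodCongr Subgroup.topEquiv (MulEquiv.refl _))

theorem Emb.card_F (h : Emb t φ) : Nat.card (F t) = 60 := by
  obtain ⟨e⟩ := F_equiv h
  rw [Nat.card_congr e.toEquiv, card_A5]

end Emb

/-- in a `Fus` group every involution has an `Emb`. -/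
theorem exists_emb_of_fus {G : Type*} [Group G] (hF : Fus G) {x : G} (hx : orderOf x = 2) :
    ∃ φ : ZA →* G, Emb x φ := exists_emb x hx (hF.cent x hx)

end Cfsg.Agent.SporadicB.J1Local.Count0
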