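import Mathlib

/-!
Kernel-checked facts on `Z2 × A5` used for counting involutions in groups of type `J1`.
-/

set_option autoImplicit false

namespace Cfsg.Agent.SporadicB.J1Local.CountFacts

/-- The concrete group `Z2 × A5`. -/
abbrev M : Type := Multiplicative (ZMod 2) × alternatingGroup (Fin 5)

/-- The central involution of `Z2 × A5`. -/
def c0 : M := (Multiplicative.ofAdd 1, 1)

set_option maxRecDepth 100000 in
theorem card_invol : (Finset.univ.filter (fun m : M => m * m = 1 ∧ m ≠ 1)).card = 31 := by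
  decide +kernel

set_option maxRecDepth 100000 in
theorem card_comm_invol : ∀ m : M, m * m = 1 → m ≠ 1 → m ≠ c0 →
    (Finset.univ.filter (fun x : M => (x * x = 1 ∧ x ≠ 1) ∧ x * m = m * x)).card = 7 := by
  decide +kernel

set_option maxRecDepth 100000 in
theorem exists_pow : ∀ m : M, m * m ≠ 1 →
    (m ^ 10 ≠ 1 ∧ (m ^ 10) ^ 3 = 1) ∨ (m ^ 6 ≠ 1 ∧ (m ^ 6) ^ 5 = 1) := by
  decide +kernel

set_option maxRecDepth 100000 in
theorem center_cases : ∀ m : M, (∀ x : M, x * m = m * x) → m = 1 ∨ m = c0 := by
  decide +kernel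

theorem card_M : Fintype.card M = 120 := by
  rw [Fintype.card_prod]
  have h1 : Fintype.card (Multiplicative (ZMod 2)) = 2 := by decide
  have h2 : Fintype.card (alternatingGroup (Fin 5)) = 60 := by decide +kernel
  rw [h1, h2]

end Cfsg.Agent.SporadicB.J1Local.CountFacts
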