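import Cfsg.Agent.SporadicB.J1Local.CountSmall

/-!
The centraliser of an element of order 7 in the "small" case, for groups of type `J1` (file of helper241).
-/

set_option autoImplicit false

namespace Cfsg.Agent.SporadicB.J1Local.CountFix

open Cfsg.Agent.SporadicB.J1Local.Defs
open Cfsg.Agent.SporadicB.J1Local.CountFacts
open Cfsg.Agent.SporadicB.J1Local.CountBase
open Cfsg.Agent.SporadicB.J1Local.CountSmall

variable {G : Type*} [Group G] [Finite G]

/-- Fixed points of an element of prime order `p` normalising `T`, modulo `p`. -/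
theorem fixed_mod (p : ℕ) [Fact p.Prime] (r : G) (hr : orderOf r = p) (T : Subgroup G)
    (hT : r ∈ Subgroup.normalizer (T : Set G)) :
    Nat.card T ≡ Nat.card {t : G // t ∈ T ∧ r * t = t * r} [MOD p] := by
  have hle : Subgroup.zpowers r ≤ Subgroup.normalizer (T : Set G) := by
    rwa [Subgroup.zpowers_le]
  letI : MulAction (Subgroup.zpowers r) T :=
    { smul := fun k t => ⟨k * t * (k : G)⁻¹, (Subgroup.mem_normalizer_iff.mp (hle k.2) t).mp t.2⟩
      one_smul := by
        intro t; apply Subtype.ext
        change ((1 : Subgroup.zpowers r) : G) * t * ((1 : Subgroup.zpowers r) : G)⁻¹ = t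
        simp
      mul_smul := by
        intro a b t; apply Subtype.ext
        change ((a * b : Subgroup.zpowers r) : G) * t * ((a * b : Subgroup.zpowers r) : G)⁻¹
          = a * (b * t * (b : G)⁻¹) * (a : G)⁻¹
        simp only [Subgroup.coe_mul, mul_inv_rev]; group }
  have hsmul : ∀ (k : Subgroup.zpowers r) (t : T), ((k • t : T) : G) = k * t * (k : G)⁻¹ :=
    fun _ _ => rfl
  have hcard : Nat.card (Subgroup.zpowers r) = p := by rw [Nat.card_zpowers, hr]
  have hp : IsPGroup p (Subgroup.zpowers r) := IsPGroup.of_card (n := 1) (by rw [hcard, pow_one])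
  have h1 := hp.card_modEq_card_fixedPoints T
  have h2 : Nat.card (MulAction.fixedPoints (Subgroup.zpowers r) T)
      = Nat.card {t : G // t ∈ T ∧ r * t = t * r} := by
    apply Nat.card_congr
    refine
      { toFun := fun t => ⟨(t : T), (t : T).2, ?_⟩
        invFun := fun t => ⟨⟨t, t.2.1⟩, ?_⟩
        left_inv := fun _ => rfl
        right_inv := fun _ => rfl }
    · have h3 := t.2 ⟨r, Subgroup.mem_zpowers r⟩
      have h4 : r * ((t : T) : G) * r⁻¹ = (t : T) := by
        have := congrArg Subtype.val h3
        rw [hsmul] at this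
        exact this
      calc r * ((t : T) : G) = (r * ((t : T) : G) * r⁻¹) * r := by group
        _ = _ := by rw [h4]
    · intro k
      obtain ⟨k, hk⟩ := k
      apply Subtype.ext
      rw [hsmul]
      obtain ⟨n, rfl⟩ := Subgroup.mem_zpowers_iff.mp hk
      have h5 : Commute (r ^ n) (t : G) := by
        have h6 : Commute r (t : G) := t.2.2
        exact h6.zpow_left n
      change r ^ n * (t : G) * (r ^ n)⁻¹ = t
      rw [h5.eq]; group
  rw [h2] at h1
  exact h1

section Seven

variable (hF : Fus G) (hS : Defs.Small G) {z u : G} (hz : orderOf z = 7) (hu : I u)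
  (huz : u * z * u⁻¹ = z⁻¹)

include hF hS hz hu

theorem fpf : ∀ b : G, b * z = z * b → u * b = b * u → b = 1 := by
  intro b hb hub
  by_contra hne
  exact no_invol hF hS hz hne hb hu hub

include huz

theorem inverts : ∀ b : G, b * z = z * b → u * b * u⁻¹ = b⁻¹ :=
  (inverts_of_fpf hu huz (fpf hF hS hz hu)).1

theorem comm : ∀ b c : G, b * z = z * b → c * z = z * c → b * c = c * b :=
  (inverts_of_fpf hu huz (fpf hF hS hz hu)).2

/-- `C(a) = C(z)` for `1 ≠ a ∈ C(z)`. -/
theorem cent_eq {a x : G} (ha : a ≠ 1) (haz : a * z = z * a) (hx : x * a = a * x) :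
    x * z = z * x := by
  have hodd : Odd (orderOf a) := odd_orderOf hF hS hz haz
  have hua : u * a * u⁻¹ = a⁻¹ := inverts hF hS hz hu huz a haz
  have hnc : ¬ (u * a = a * u) := by
    intro h
    exact ha (fpf hF hS hz hu a haz h)
  have hfix : ∀ b : G, b * a = a * b → u * b = b * u → b = 1 := by
    intro b hb hub
    by_contra hne
    obtain ⟨k, hk⟩ := exists_prime_pow hne
    have hab : b ^ k * a = a * b ^ k := by
      have : Commute b a := hb
      exact this.pow_left k
    have hub' : b ^ k * u = u * b ^ k := by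
      have : Commute b u := hub.symm
      exact this.pow_left k
    by_cases h2 : orderOf (b ^ k) = 2
    · exact no_invol hF hS hz ha haz (I_iff.mpr h2) hab
    · obtain ⟨h3, h4⟩ := prime_cases hF hS hu hub' hk h2
      obtain ⟨n, hn⟩ := Subgroup.mem_zpowers_iff.mp (mem_zpowers_of_odd h4 hab.symm hodd)
      apply hnc
      have h5 : Commute (b ^ k) u := hub'
      have h6 : Commute ((b ^ k) ^ n) u := h5.zpow_left n
      rw [hn] at h6
      exact h6.eq.symm
  exact (inverts_of_fpf hu hua hfix).2 x z hx haz.symm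

/-- The involutions inverting `z` are the elements `u a`, `a ∈ C(z)`. -/
theorem card_inverting :
    Nat.card {v : G // orderOf v = 2 ∧ v * z * v⁻¹ = z⁻¹}
      = Nat.card (Subgroup.centralizer ({z} : Set G)) := by
  have hinv : u⁻¹ = u := by rw [inv_eq_iff_mul_eq_one]; exact hu.1
  have hz1 : z ≠ 1 := by rintro rfl; simp at hz
  symm
  apply Nat.card_congr
  refine
    { toFun := fun a => ⟨u * a, ?_⟩
      invFun := fun v => ⟨u⁻¹ * v, ?_⟩
      left_inv := fun a => Subtype.ext (by simp)
      right_inv := fun v => Subtype.ext (by simp) }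
  · have haz : (a : G) * z = z * a := mem_cent.mp a.2
    have h1 := inverts hF hS hz hu huz a haz
    refine ⟨?_, ?_⟩
    · rw [← I_iff]
      refine ⟨?_, ?_⟩
      · calc u * (a : G) * (u * a) = (u * a * u⁻¹) * (u * u) * a := by group
          _ = (a : G)⁻¹ * 1 * a := by rw [h1, hu.1]
          _ = 1 := by group
      · intro h
        have h2 : u = (a : G)⁻¹ := eq_inv_of_mul_eq_one_left h
        have h3 : u * z = z * u := by
          rw [h2]
          have h4 : Commute (a : G) z := haz
          exact h4.inv_left.eq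
        exact no_invol hF hS hz hz1 rfl hu h3
    · calc u * (a : G) * z * (u * a)⁻¹ = u * (a * z) * (a : G)⁻¹ * u⁻¹ := by group
        _ = u * (z * a) * (a : G)⁻¹ * u⁻¹ := by rw [haz]
        _ = u * z * u⁻¹ := by group
        _ = z⁻¹ := huz
  · rw [mem_cent]
    have h1 := v.2.2
    -- v z = z⁻¹ v, u⁻¹ z⁻¹ = z u⁻¹
    have h2 : (v : G) * z = z⁻¹ * v := by
      calc (v : G) * z = ((v : G) * z * (v : G)⁻¹) * v := by group
        _ = z⁻¹ * v := by rw [h1]
    have h3 : u⁻¹ * z⁻¹ = z * u⁻¹ := by
      have h4 : z⁻¹ = u * z * u⁻¹ := huz.symm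
      rw [h4]; group
    calc u⁻¹ * (v : G) * z = u⁻¹ * (v * z) := by group
      _ = (u⁻¹ * z⁻¹) * v := by rw [h2]; group
      _ = z * (u⁻¹ * v) := by rw [h3]; group

end Seven

end Cfsg.Agent.SporadicB.J1Local.CountFix
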