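import Cfsg.Agent.SporadicB.J1Local.CountBase

/-!
Centralisers in the "small" case, for groups of type `J1` (file of helper241).
-/

set_option autoImplicit false

namespace Cfsg.Agent.SporadicB.J1Local.CountSmall

open Cfsg.Agent.SporadicB.J1Local.Defs
open Cfsg.Agent.SporadicB.J1Local.CountFacts
open Cfsg.Agent.SporadicB.J1Local.CountBase

variable {G : Type*} [Group G] [Finite G]

/-- If `|C(w)| = 2 p` with `p = orderOf w`, an element `a` of odd order commuting with `w` is a power of `w`. -/
theorem mem_zpowers_of_odd {w a : G}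
    (hC : Nat.card (Subgroup.centralizer ({w} : Set G)) = 2 * orderOf w)
    (ha : a * w = w * a) (hodd : Odd (orderOf a)) : a ∈ Subgroup.zpowers w := by
  have hw0 : 0 < orderOf w := orderOf_pos w
  set C := Subgroup.centralizer ({w} : Set G) with hCdef
  let K : Subgroup C := Subgroup.zpowers (⟨w, self_mem_cent w⟩ : C)
  have hK : Nat.card K = orderOf w := by
    rw [Nat.card_zpowers, ← orderOf_injective C.subtype C.subtype_injective]
    rfl
  have hidx : K.index = 2 := by
    have h1 := Subgroup.card_mul_index K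
    rw [hK, hC] at h1
    have : orderOf w * K.index = orderOf w * 2 := by rw [h1]; ring
    exact Nat.eq_of_mul_eq_mul_left hw0 this
  have ham : a ∈ C := mem_cent.mpr ha
  obtain ⟨k, hk⟩ := hodd
  -- a = (a^2)^(k+1)
  have h2 : (⟨a, ham⟩ : C) ^ 2 ∈ K := Subgroup.sq_mem_of_index_two hidx _
  have h3 : (⟨a, ham⟩ : C) = ((⟨a, ham⟩ : C) ^ 2) ^ (k + 1) := by
    apply Subtype.ext
    simp only [SubmonoidClass.mk_pow]
    rw [← pow_mul]
    have : 2 * (k + 1) = orderOf a + 1 := by omega
    rw [this, pow_succ, pow_orderOf_eq_one, one_mul]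
  have h4 : (⟨a, ham⟩ : C) ∈ K := by rw [h3]; exact K.pow_mem h2 _
  obtain ⟨n, hn⟩ := Subgroup.mem_zpowers_iff.mp h4
  rw [Subgroup.mem_zpowers_iff]
  exact ⟨n, by simpa using congrArg Subtype.val hn⟩

/-- If `|C(w)| = 2 p` with `p = orderOf w` odd, then `C(w)` has at most one involution. -/
theorem unique_invol {w v v' : G} (hodd : Odd (orderOf w))
    (hC : Nat.card (Subgroup.centralizer ({w} : Set G)) = 2 * orderOf w)
    (hv : I v) (hv' : I v') (hc : v * w = w * v) (hc' : v' * w = w * v') : v = v' := by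
  have hw0 : 0 < orderOf w := orderOf_pos w
  set C := Subgroup.centralizer ({w} : Set G) with hCdef
  let K : Subgroup C := Subgroup.zpowers (⟨w, self_mem_cent w⟩ : C)
  have hK : Nat.card K = orderOf w := by
    rw [Nat.card_zpowers, ← orderOf_injective C.subtype C.subtype_injective]
    rfl
  have hidx : K.index = 2 := by
    have h1 := Subgroup.card_mul_index K
    rw [hK, hC] at h1
    have : orderOf w * K.index = orderOf w * 2 := by rw [h1]; ring
    exact Nat.eq_of_mul_eq_mul_left hw0 this
  have hnot : ∀ u : G, I u → ∀ hu : u ∈ C, (⟨u, hu⟩ : C) ∉ K := by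
    intro u hI hu hmem
    have h1 : orderOf (⟨u, hu⟩ : C) ∣ Nat.card K := Subgroup.orderOf_dvd_natCard K hmem
    rw [hK, ← orderOf_injective C.subtype C.subtype_injective] at h1
    have h2 : orderOf (C.subtype ⟨u, hu⟩) = 2 := I_iff.mp hI
    rw [h2] at h1
    exact (Nat.not_even_iff_odd.mpr hodd) (even_iff_two_dvd.mpr h1)
  have hvm : v ∈ C := mem_cent.mpr hc
  have hvm' : v' ∈ C := mem_cent.mpr hc'
  have hprod : (⟨v, hvm⟩ : C) * ⟨v', hvm'⟩ ∈ K := by
    rw [Subgroup.mul_mem_iff_of_index_two hidx]
    exact ⟨fun h => absurd h (hnot v hv hvm), fun h => absurd h (hnot v' hv' hvm')⟩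
  obtain ⟨n, hn⟩ := Subgroup.mem_zpowers_iff.mp hprod
  have hn' : w ^ n = v * v' := by simpa using congrArg Subtype.val hn
  -- v commutes with v v'
  have hcomm : v * (v * v') = (v * v') * v := by
    have h5 : Commute v w := hc
    have h6 : Commute v (w ^ n) := h5.zpow_right n
    rw [hn'] at h6
    exact h6
  have hsq : (v * v') * (v * v') = 1 := by
    calc (v * v') * (v * v') = ((v * v') * v) * v' := by group
      _ = (v * (v * v')) * v' := by rw [hcomm]
      _ = (v * v) * (v' * v') := by group
      _ = 1 := by rw [hv.1, hv'.1, one_mul]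
  by_contra hne
  have hne1 : v * v' ≠ 1 := by
    intro h
    apply hne
    have : v * v' = v * v := by rw [h, hv.1]
    exact (mul_left_cancel this).symm
  exact hnot (v * v') ⟨hsq, hne1⟩ (C.mul_mem hvm hvm') hprod

/-- In the small case an odd prime order element commuting with an involution has order 3 or 5 and
centraliser of order `2 p`. -/
theorem prime_cases (hF : Fus G) (hS : Defs.Small G) {b v : G} (hv : I v) (hc : b * v = v * b)
    (hp : (orderOf b).Prime) (h2 : orderOf b ≠ 2) :
    (orderOf b = 3 ∨ orderOf b = 5) ∧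
      Nat.card (Subgroup.centralizer ({b} : Set G)) = 2 * orderOf b := by
  have h1 : orderOf b ∣ 120 := by
    rw [← card_cent hF hv]
    exact Subgroup.orderOf_dvd_natCard _ (mem_cent.mpr hc)
  have h3 : orderOf b = 3 ∨ orderOf b = 5 := by
    have h4 : orderOf b ∣ 2 ^ 3 * (3 * 5) := by norm_num; exact h1
    rcases (Nat.Prime.dvd_mul hp).mp h4 with h5 | h5
    · have := (Nat.prime_dvd_prime_iff_eq hp Nat.prime_two).mp (hp.dvd_of_dvd_pow h5)
      exact absurd this h2
    · rcases (Nat.Prime.dvd_mul hp).mp h5 with h6 | h6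
      · exact Or.inl ((Nat.prime_dvd_prime_iff_eq hp Nat.prime_three).mp h6)
      · exact Or.inr ((Nat.prime_dvd_prime_iff_eq hp Nat.prime_five).mp h6)
  exact ⟨h3, hS v b (I_iff.mp hv) hc.symm h3⟩

/-- Every nontrivial element has a power of prime order. -/
theorem exists_prime_pow {a : G} (ha : a ≠ 1) : ∃ k : ℕ, (orderOf (a ^ k)).Prime := by
  have h1 : orderOf a ≠ 1 := fun h => ha (orderOf_eq_one_iff.mp h)
  obtain ⟨p, hp, hpd⟩ := Nat.exists_prime_and_dvd h1
  obtain ⟨m, hm⟩ := hpd
  refine ⟨m, ?_⟩
  have hm0 : m ≠ 0 := by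
    rintro rfl
    have := orderOf_pos a
    omega
  have : orderOf (a ^ m) = p := by
    rw [orderOf_pow' _ hm0, hm]
    rw [Nat.gcd_eq_right (Dvd.intro_left p rfl)]
    exact Nat.mul_div_cancel _ (Nat.pos_of_ne_zero hm0)
  rw [this]; exact hp

/-- No involution commutes with a nontrivial element commuting with an element `z` of order 7. -/
theorem no_invol (hF : Fus G) (hS : Defs.Small G) {z a v : G} (hz : orderOf z = 7) (ha : a ≠ 1)
    (haz : a * z = z * a) (hv : I v) (hva : v * a = a * v) : False := by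
  obtain ⟨k, hk⟩ := exists_prime_pow ha
  have hzb : z * a ^ k = a ^ k * z := by
    have : Commute z a := haz.symm
    exact this.pow_right k
  have hvb : v * a ^ k = a ^ k * v := by
    have : Commute v a := hva
    exact this.pow_right k
  have hz7 : orderOf z ∣ Nat.card (Subgroup.centralizer ({a ^ k} : Set G)) :=
    Subgroup.orderOf_dvd_natCard _ (mem_cent.mpr hzb)
  rw [hz] at hz7
  by_cases h2 : orderOf (a ^ k) = 2
  · rw [card_cent hF (I_iff.mpr h2)] at hz7
    norm_num at hz7
  · obtain ⟨h3, h4⟩ := prime_cases hF hS hv hvb.symm hk h2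
    rw [h4] at hz7
    rcases h3 with h3 | h3 <;> rw [h3] at hz7 <;> norm_num at hz7

/-- `C(z)` has odd order for `z` of order 7. -/
theorem odd_card_cent (hF : Fus G) (hS : Defs.Small G) {z : G} (hz : orderOf z = 7) :
    Odd (Nat.card (Subgroup.centralizer ({z} : Set G))) := by
  rw [← Nat.not_even_iff_odd, even_iff_two_dvd]
  intro h
  have : Fact (Nat.Prime 2) := ⟨Nat.prime_two⟩
  obtain ⟨x, hx⟩ := exists_prime_orderOf_dvd_card' 2 h
  have hx' : I (x : G) := by
    rw [I_iff, ← hx]
    exact orderOf_injective (Subgroup.centralizer ({z} : Set G)).subtype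
      (Subgroup.subtype_injective _) x
  have hz1 : z ≠ 1 := by rintro rfl; simp at hz
  exact no_invol hF hS hz hz1 rfl hx' (mem_cent.mp x.2)

theorem odd_orderOf (hF : Fus G) (hS : Defs.Small G) {z a : G} (hz : orderOf z = 7)
    (haz : a * z = z * a) : Odd (orderOf a) :=
  Odd.of_dvd_nat (odd_card_cent hF hS hz)
    (Subgroup.orderOf_dvd_natCard _ (mem_cent.mpr haz))

/-- If an involution `u` normalises `C(a)` (i.e. `u a u⁻¹ = a⁻¹` or so) and acts on it without fixed
points then `u` inverts `C(a)` and `C(a)` is commutative. -/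
theorem inverts_of_fpf {a u : G} (hu : I u) (hua : u * a * u⁻¹ = a⁻¹)
    (hfix : ∀ b : G, b * a = a * b → u * b = b * u → b = 1) :
    (∀ b : G, b * a = a * b → u * b * u⁻¹ = b⁻¹) ∧
      (∀ b c : G, b * a = a * b → c * a = a * c → b * c = c * b) := by
  have hinv : u⁻¹ = u := by
    rw [inv_eq_iff_mul_eq_one]; exact hu.1
  set C := Subgroup.centralizer ({a} : Set G) with hCdef
  have hnorm : ∀ b : G, b ∈ C → u * b * u⁻¹ ∈ C := by
    intro b hb
    rw [hCdef, mem_cent] at hb ⊢
    have h1 : Commute b a := hb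
    have h2 : Commute (u * b * u⁻¹) (u * a * u⁻¹) := by
      have := h1.map (MulAut.conj u)
      simpa [MulAut.conj_apply] using this
    rw [hua] at h2
    have h3 : Commute (u * b * u⁻¹) a := by simpa using h2.inv_right
    exact h3
  let φ : C →* C :=
    { toFun := fun b => ⟨u * b * u⁻¹, hnorm b b.2⟩
      map_one' := by apply Subtype.ext; simp
      map_mul' := by intro b c; apply Subtype.ext; simp }
  have hφ : MonoidHom.FixedPointFree φ := by
    intro b hb
    have h1 : u * (b : G) * u⁻¹ = b := congrArg Subtype.val hb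
    have h2 : u * (b : G) = b * u := by
      calc u * (b : G) = (u * (b : G) * u⁻¹) * u := by group
        _ = b * u := by rw [h1]
    exact Subtype.ext (hfix b (mem_cent.mp b.2) h2)
  have hinvol : Function.Involutive φ := by
    intro b
    apply Subtype.ext
    change u * (u * (b : G) * u⁻¹) * u⁻¹ = b
    rw [hinv]
    calc u * (u * (b : G) * u) * u = (u * u) * b * (u * u) := by group
      _ = b := by rw [hu.1]; simp
  constructor
  · intro b hb
    have h1 := congrFun (hφ.coe_eq_inv_of_involutive hinvol) ⟨b, mem_cent.mpr hb⟩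
    exact congrArg Subtype.val h1
  · intro b c hb hc
    have h1 := hφ.commute_all_of_involutive hinvol ⟨b, mem_cent.mpr hb⟩ ⟨c, mem_cent.mpr hc⟩
    exact congrArg Subtype.val h1.eq

end Cfsg.Agent.SporadicB.J1Local.CountSmall
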